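import Cfsg.Agent.H145.BR.Table
import Cfsg.Agent.H685.BR.RatFinal

/-!
# S4857, S4858 : the dispatch (helper652, after helper145's `Table`)

`known` : from the rows, `Row57 p G` for every known nonabelian simple group `G` with `p ∣ |G|`;
`rat57` : all nonabelian simple groups; `s4857`, `s4858` : the statements from the rows, the classification and S4913.
-/

set_option autoImplicit false
set_option linter.unusedSectionVars false

open Subgroup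

namespace Cfsg.Agent.H652.RB

open Cfsg Cfsg.Agent.H685.BR
open Cfsg.Agent.H145.BR (charP_of nonab_congr)

universe u

section

variable {p : ℕ} [hp : Fact p.Prime]

variable {X : Type} [Group X] [Finite X] [IsSimpleGroup X]

theorem of_lie (R : Rows57 p) (hna : ¬ IsMulCommutative X) (hd : p ∣ Nat.card X)
    (h : IsLieTypeChar p X) : Row57 p X :=
  R.lie X hna hd h

theorem rpsl (R : Rows57 p) (hna : ¬ IsMulCommutative X) (hd : p ∣ Nat.card X) (h : IsPSL X) : Row57 p X := by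
  obtain ⟨F, iF, iN, n, hn, hn2, ⟨e⟩⟩ := h
  by_cases hF : (p : F) = 0
  · have h1 : IsPSLChar p X := ⟨F, iF, iN, charP_of hF, n, hn, hn2, ⟨e⟩⟩
    exact of_lie R hna hd (Or.inl h1)
  · exact R.psl X hna hd ⟨F, iF, iN, n, hF, hn, ⟨e⟩⟩

theorem rpsp (R : Rows57 p) (hna : ¬ IsMulCommutative X) (hd : p ∣ Nat.card X) (h : IsPSp X) : Row57 p X := by
  obtain ⟨F, iF, iN, n, hn, hn2, ⟨e⟩⟩ := h
  by_cases hF : (p : F) = 0
  · have h1 : IsPSpChar p X := ⟨F, iF, iN, charP_of hF, n, hn, hn2, ⟨e⟩⟩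
    exact of_lie R hna hd (Or.inr (Or.inl h1))
  · exact R.psp X hna hd ⟨F, iF, iN, n, hF, hn, ⟨e⟩⟩

theorem rpsu (R : Rows57 p) (hna : ¬ IsMulCommutative X) (hd : p ∣ Nat.card X) (h : IsPSU X) : Row57 p X := by
  obtain ⟨F, iF, iN, n, q, hq, hn, hn2, ⟨e⟩⟩ := h
  by_cases hF : (p : F) = 0
  · have h1 : IsPSUChar p X := ⟨F, iF, iN, charP_of hF, n, q, hq, hn, hn2, ⟨e⟩⟩
    exact of_lie R hna hd (Or.inr (Or.inr (Or.inl h1)))
  · exact R.psu X hna hd ⟨F, iF, iN, n, q, hF, hq, hn, ⟨e⟩⟩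

theorem rpodd (R : Rows57 p) (hna : ¬ IsMulCommutative X) (hd : p ∣ Nat.card X) (h : IsPOmegaOdd X) : Row57 p X := by
  obtain ⟨F, iF, iN, m, hm, hodd, ⟨e⟩⟩ := h
  by_cases hF : (p : F) = 0
  · have h1 : IsPOmegaOddChar p X := ⟨F, iF, iN, charP_of hF, m, hm, hodd, ⟨e⟩⟩
    exact of_lie R hna hd (Or.inr (Or.inr (Or.inr (Or.inl h1))))
  · exact R.oodd X hna hd ⟨F, iF, iN, m, hF, hm, hodd, ⟨e⟩⟩

theorem rpplus (R : Rows57 p) (hna : ¬ IsMulCommutative X) (hd : p ∣ Nat.card X) (h : IsPOmegaPlus X) :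
    Row57 p X := by
  obtain ⟨F, iF, iN, m, hm, ⟨e⟩⟩ := h
  by_cases hF : (p : F) = 0
  · have h1 : IsPOmegaPlusChar p X := ⟨F, iF, iN, charP_of hF, m, hm, ⟨e⟩⟩
    exact of_lie R hna hd (Or.inr (Or.inr (Or.inr (Or.inr (Or.inl h1)))))
  · exact R.oplus X hna hd ⟨F, iF, iN, m, hF, hm, ⟨e⟩⟩

theorem rpminus (R : Rows57 p) (hna : ¬ IsMulCommutative X) (hd : p ∣ Nat.card X) (h : IsPOmegaMinus X) :
    Row57 p X := by
  obtain ⟨F, iF, iN, m, a, b, hm, hab, ⟨e⟩⟩ := h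
  by_cases hF : (p : F) = 0
  · have h1 : IsPOmegaMinusChar p X := ⟨F, iF, iN, charP_of hF, m, a, b, hm, hab, ⟨e⟩⟩
    exact of_lie R hna hd (Or.inr (Or.inr (Or.inr (Or.inr (Or.inr (Or.inl h1))))))
  · exact R.ominus X hna hd ⟨F, iF, iN, m, a, b, hF, hm, hab, ⟨e⟩⟩

theorem lie_exc (R : Rows57 p) (hna : ¬ IsMulCommutative X) (hd : p ∣ Nat.card X)
    (h : IsExceptionalChevChar p X) : Row57 p X :=
  of_lie R hna hd (Or.inr (Or.inr (Or.inr (Or.inr (Or.inr (Or.inr (Or.inl h)))))))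

theorem lie_tw (R : Rows57 p) (hna : ¬ IsMulCommutative X) (hd : p ∣ Nat.card X) (h : IsTwistedE6D4Char p X) :
    Row57 p X :=
  of_lie R hna hd (Or.inr (Or.inr (Or.inr (Or.inr (Or.inr (Or.inr (Or.inr (Or.inl h))))))))

theorem rexc (R : Rows57 p) (hna : ¬ IsMulCommutative X) (hd : p ∣ Nat.card X)
    (h : IsExceptionalLieType X) : Row57 p X := by
  rcases h with h | h | h | h | h | h | h | h | h | h | h
  · obtain ⟨F, iF, iN, h3, ⟨e⟩⟩ := h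
    by_cases hF : (p : F) = 0
    · exact lie_exc R hna hd ⟨F, iF, iN, charP_of hF, Or.inl ⟨h3, ⟨e⟩⟩⟩
    · exact R.g2 X hna hd ⟨F, iF, iN, hF, h3, ⟨e⟩⟩
  · obtain ⟨F, iF, iN, ⟨e⟩⟩ := h
    by_cases hF : (p : F) = 0
    · exact lie_exc R hna hd ⟨F, iF, iN, charP_of hF, Or.inr (Or.inl ⟨e⟩)⟩
    · exact R.f4 X hna hd ⟨F, iF, iN, hF, ⟨e⟩⟩
  · obtain ⟨F, iF, iN, ⟨e⟩⟩ := h
    by_cases hF : (p : F) = 0
    · exact lie_exc R hna hd ⟨F, iF, iN, charP_of hF, Or.inr (Or.inr (Or.inl ⟨e⟩))⟩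
    · exact R.e6 X hna hd ⟨F, iF, iN, hF, ⟨e⟩⟩
  · obtain ⟨F, iF, iN, ⟨e⟩⟩ := h
    by_cases hF : (p : F) = 0
    · exact lie_exc R hna hd ⟨F, iF, iN, charP_of hF, Or.inr (Or.inr (Or.inr (Or.inl ⟨e⟩)))⟩
    · exact R.e7 X hna hd ⟨F, iF, iN, hF, ⟨e⟩⟩
  · obtain ⟨F, iF, iN, ⟨e⟩⟩ := h
    by_cases hF : (p : F) = 0
    · exact lie_exc R hna hd ⟨F, iF, iN, charP_of hF, Or.inr (Or.inr (Or.inr (Or.inr ⟨e⟩)))⟩
    · exact R.e8 X hna hd ⟨F, iF, iN, hF, ⟨e⟩⟩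
  · obtain ⟨K, iF, iN, q, hq, hK, ⟨e⟩⟩ := h
    by_cases hF : (p : K) = 0
    · exact lie_tw R hna hd ⟨K, iF, iN, charP_of hF, q, hq, Or.inl ⟨hK, ⟨e⟩⟩⟩
    · exact R.te6 X hna hd ⟨K, iF, iN, q, hF, hq, hK, ⟨e⟩⟩
  · obtain ⟨K, iF, iN, q, hq, hK, ⟨e⟩⟩ := h
    by_cases hF : (p : K) = 0
    · exact lie_tw R hna hd ⟨K, iF, iN, charP_of hF, q, hq, Or.inr ⟨hK, ⟨e⟩⟩⟩
    · exact R.td4 X hna hd ⟨K, iF, iN, q, hF, hq, hK, ⟨e⟩⟩
  · exact R.sz X hna hd h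
  · by_cases hp3 : p = 3
    · exact of_lie R hna hd (Or.inr (Or.inr (Or.inr (Or.inr (Or.inr (Or.inr (Or.inr (Or.inr (Or.inr (Or.inr
        ⟨hp3, h⟩))))))))))
    · exact R.ree hp3 X hna hd h
  · exact R.tf4 X hna hd h
  · exact R.tits X hna hd h

/-- **the dispatch** -/
theorem known (R : Rows57 p) {G : Type u} [Group G] [Finite G] [IsSimpleGroup G]
    (hna : ¬ IsMulCommutative G) (hd : p ∣ Nat.card G) (hk : IsKnownSimple' G) : Row57 p G := by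
  have e : G ≃* Shrink.{0} G := (Shrink.mulEquiv.{0}).symm
  have hf : Finite (Shrink.{0} G) := Finite.of_equiv _ e.toEquiv
  have hs : IsSimpleGroup (Shrink.{0} G) := e.symm.isSimpleGroup
  have h1 := nonab_congr e hna
  have h2 : p ∣ Nat.card (Shrink.{0} G) := by rwa [← Nat.card_congr e.toEquiv]
  refine Row57.congr e ?_
  rcases OddHalf.Known.isKnownSimple'_congr e hna hk with h | h | h | h | h | h | h | h | h | h
  · exfalso
    have h3 : (Nat.card (Shrink.{0} G)).Prime := h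
    have : Fact (Nat.card (Shrink.{0} G)).Prime := ⟨h3⟩
    have hc : IsCyclic (Shrink.{0} G) := isCyclic_of_prime_card rfl
    exact h1 ⟨⟨fun a b => by
      let _ : CommGroup (Shrink.{0} G) := IsCyclic.commGroup
      exact mul_comm a b⟩⟩
  · exact R.alt _ h1 h2 h
  · exact rpsl R h1 h2 h
  · exact rpsp R h1 h2 h
  · exact rpsu R h1 h2 h
  · exact rpodd R h1 h2 h
  · exact rpplus R h1 h2 h
  · exact rpminus R h1 h2 h
  · exact rexc R h1 h2 h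
  · exact R.spor _ h1 h2 h

end

/-- **all simple groups**, from the rows and the classification -/
theorem rat57 {p : ℕ} [Fact p.Prime] (R : Rows57 p)
    (hcfsg : ∀ (G : Type u) [Group G] [Finite G] [IsSimpleGroup G], IsKnownSimple' G) : Rat57.{u} p := by
  intro S _ _ hS hna hd
  exact known R hna hd (hcfsg S)

/-- **S4857** from the rows, the classification and S4913 -/
theorem s4857 {G : Type u} [Group G] [Finite G] [IsSimpleGroup G] (hG : ¬ IsMulCommutative G) (p : ℕ) [Fact p.Prime]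
    (hp : p ∣ Nat.card G) (M : Ideal Cfsg.AlgInt) (hM : Cfsg.IsPModular p M)
    (R : p ≠ 2 → Rows57 p) (hcfsg : ∀ (G : Type u) [Group G] [Finite G] [IsSimpleGroup G], IsKnownSimple' G)
    (h2 : RatOddEven.{u}) :
    (p ≠ 3 → ∃ χ : Cfsg.IrrCharacter G, χ ∈ Cfsg.principalBlock M G ∧ ¬ ((χ : G → ℂ) = fun _ => (1 : ℂ)) ∧
        (∀ g : G, ∃ q : ℚ, (χ : G → ℂ) g = (q : ℂ))) ∧
      (p = 3 → ∃ χ : Cfsg.IrrCharacter G, χ ∈ Cfsg.principalBlock M G ∧ ¬ ((χ : G → ℂ) = fun _ => (1 : ℂ)) ∧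
        (∀ g : G, ((χ : G → ℂ) g).im = 0) ∧ (∃ n : ℕ, ¬ p ∣ n ∧ ∀ g : G, (χ : G → ℂ) g ∈
          IntermediateField.adjoin ℚ ({Complex.exp (2 * Real.pi * Complex.I / n)} : Set ℂ))) := by
  apply form57
  by_cases hp2 : p = 2
  · subst hp2
    exact two57 h2 (even_iff_two_dvd.2 hp) M hM
  · exact known (R hp2) hG hp (hcfsg G) M hM

/-- **S4858** from the rows, the classification and S4913 -/
theorem s4858 {G : Type u} [Group G] [Finite G] (p : ℕ) [Fact p.Prime] (M : Ideal Cfsg.AlgInt)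
    (hM : Cfsg.IsPModular p M) (R : p ≠ 2 → Rows57 p)
    (hcfsg : ∀ (G : Type u) [Group G] [Finite G] [IsSimpleGroup G], IsKnownSimple' G) (h2 : RatOddEven.{u}) :
    ((p ≠ 3 → ∀ χ : Cfsg.IrrCharacter G, χ ∈ Cfsg.principalBlock M G →
        (∀ g : G, ∃ q : ℚ, (χ : G → ℂ) g = (q : ℂ)) → ((χ : G → ℂ) = fun _ => (1 : ℂ))) ∧
      (p = 3 → ∀ χ : Cfsg.IrrCharacter G, χ ∈ Cfsg.principalBlock M G → (∀ g : G, ((χ : G → ℂ) g).im = 0) →
        (∃ n : ℕ, ¬ p ∣ n ∧ ∀ g : G, (χ : G → ℂ) g ∈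
          IntermediateField.adjoin ℚ ({Complex.exp (2 * Real.pi * Complex.I / n)} : Set ℂ)) →
        ((χ : G → ℂ) = fun _ => (1 : ℂ)))) ↔ Odd (Cfsg.pPrimeCore p G).index :=
  iff57 p h2 (fun hp2 => rat57 (R hp2) hcfsg) M hM

end Cfsg.Agent.H652.RB
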