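import Cfsg.Agent.H968.Imc.RankThreeRat
import Cfsg.Agent.H113.PSU.Rank3
import Cfsg.Agent.H464.ExtR3
import Cfsg.Agent.H464.ExtRows
import Cfsg.Agent.H464.ExtQU
import Cfsg.Agent.H477.HC.Rk3Chars
import Cfsg.Agent.H113.PSU.Chars
import Cfsg.Agent.H685.BR.Defs
import Cfsg.Agent.H690.LThreeFour
import Cfsg.Agent.H984.SLCyc
import Cfsg.Agent.H477.HC.Groups
import Cfsg.Agent.H145.U3Psu
import Cfsg.Agent.H732.DegRee
import Cfsg.Agent.H133.PB.LieCross

/-!
# The own characteristic rows of S4857 (helper652)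

`own_row57` : all groups of Lie type in characteristic `p`, `p` odd, from the rows of the exceptional groups.
`goodDeg_classical` : an irreducible character with good values whose degree is not a power of `p`.
-/

set_option autoImplicit false

section

/-!
# Integer valued constituents of a rank 3 permutation character of even degree (helper652, for S4857)

`frame_int` : `R3 G X R k l` with known integer eigenvalues: the permutation character is `1 + χ₁ + χ₂` with integer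
valued irreducible characters; `exists_even` : if `|X|` is even, one of the two has even degree.
-/

set_option linter.unusedSectionVars false

namespace Cfsg.Agent.H652.RB

open Cfsg Cfsg.Agent.Characters.Core Cfsg.Agent.H690.Spor.RankThree Cfsg.Agent.H690.Spor.RankThree.R3
open scoped ComplexConjugate

universe u v

variable {G : Type u} {X : Type v} [Group G] [MulAction G X] {R : X → X → Prop} {k l : ℕ}

/-- an integer valued irreducible character of even degree -/
def EvenInt (G : Type u) [Group G] : Prop :=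
  ∃ χ : IrrCharacter G, (∀ g, ∃ z : ℤ, (χ : G → ℂ) g = z) ∧ 2 ∣ charDegree (χ : G → ℂ)

section

variable [Fintype X] [DecidableEq X] [DecidableRel R]

theorem frame_int [Finite G] (h : R3 G X R k l) {x₀ y₀ : X} (hxy : x₀ ≠ y₀) (hR : ¬ R x₀ y₀) {b : ℕ}
    (hb : com R x₀ y₀ = b) {r s : ℤ} (hrs : r ≠ s) (h2 : r * s = b - k)
    (h1 : (k : ℤ) * (r + s + b) = k * k - k - l * b) :
    ∃ χ₁ χ₂ : IrrCharacter G, (∀ g, ∃ z : ℤ, (χ₁ : G → ℂ) g = z) ∧ (∀ g, ∃ z : ℤ, (χ₂ : G → ℂ) g = z) ∧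
      (∀ x : G, (Nat.card (MulAction.fixedBy X x) : ℂ) = 1 + (χ₁ : G → ℂ) x + (χ₂ : G → ℂ) x) ∧
      ∀ x : G, (∀ y : X, x • y = y) → (χ₁ : G → ℂ) x = (χ₁ : G → ℂ) 1 ∧ (χ₂ : G → ℂ) x = (χ₂ : G → ℂ) 1 := by
  obtain ⟨a, b', hab⟩ := h.exists_params
  have hp := h.params_eq hab
  have hbb : b' = b := by rw [← hb]; exact (Cfsg.Agent.H113.PSU.Rank3.params_b hab hxy hR).symm
  subst hbb
  have hk0 : (0 : ℤ) < k := by exact_mod_cast h.k0
  have hpZ : (k : ℤ) * k = k + k * a + l * b' := by exact_mod_cast hp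
  have h1' : r + s = a - b' := by
    have h3 : (k : ℤ) * (r + s + b') = k * a := by rw [h1]; linear_combination hpZ
    have h4 := mul_left_cancel₀ hk0.ne' h3
    linear_combination h4
  obtain ⟨χ₁, -, e1, i1, -, -⟩ := H968.Imc.exists_irr_int h hab hrs h1' h2
  obtain ⟨χ₂, -, e2, i2, -, -⟩ := H968.Imc.exists_irr_int h hab hrs.symm (by rw [add_comm]; exact h1')
    (by rw [mul_comm]; exact h2)
  refine ⟨χ₁, χ₂, i1, i2, fun x => ?_, fun x hx => ⟨?_, ?_⟩⟩
  · rw [e1, e2]
    exact H968.Imc.fix_eq h hrs x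
  · rw [e1, e1]
    exact Finset.sum_congr rfl fun y _ => by rw [hx y, one_smul]
  · rw [e2, e2]
    exact Finset.sum_congr rfl fun y _ => by rw [hx y, one_smul]

theorem exists_even' [Finite G] (h : R3 G X R k l) {x₀ y₀ : X} (hxy : x₀ ≠ y₀) (hR : ¬ R x₀ y₀) {b : ℕ}
    (hb : com R x₀ y₀ = b) {r s : ℤ} (hrs : r ≠ s) (h2 : r * s = b - k)
    (h1 : (k : ℤ) * (r + s + b) = k * k - k - l * b) (hX : Even (Nat.card X)) :
    ∃ χ : IrrCharacter G, (∀ g, ∃ z : ℤ, (χ : G → ℂ) g = z) ∧ 2 ∣ charDegree (χ : G → ℂ) ∧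
      ∀ x : G, (∀ y : X, x • y = y) → (χ : G → ℂ) x = (χ : G → ℂ) 1 := by
  obtain ⟨χ₁, χ₂, i1, i2, h3, h0⟩ := frame_int h hxy hR hb hrs h2 h1
  obtain ⟨f, hf⟩ := isCharacter_apply_one (isIrr_isCharacter χ₁.2)
  obtain ⟨g, hg⟩ := isCharacter_apply_one (isIrr_isCharacter χ₂.2)
  have h4 := h3 1
  rw [hf, hg] at h4
  have h5 : Nat.card (MulAction.fixedBy X (1 : G)) = Nat.card X := by
    have : MulAction.fixedBy X (1 : G) = Set.univ := Set.eq_univ_of_forall fun y => one_smul G y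
    rw [this]
    exact Nat.card_univ
  rw [h5] at h4
  have h6 : Nat.card X = 1 + f + g := by exact_mod_cast h4
  rw [h6] at hX
  have hf' : charDegree (χ₁ : G → ℂ) = f := Cfsg.Agent.Blocks.Basic.charDegree_of_eq hf
  have hg' : charDegree (χ₂ : G → ℂ) = g := Cfsg.Agent.Blocks.Basic.charDegree_of_eq hg
  rcases Nat.even_or_odd f with h7 | h7
  · exact ⟨χ₁, i1, by rw [hf']; exact h7.two_dvd, fun x hx => (h0 x hx).1⟩
  · refine ⟨χ₂, i2, ?_, fun x hx => (h0 x hx).2⟩
    rw [hg']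
    have h8 : Even (1 + f) := by
      rw [add_comm]
      exact h7.add_one
    exact ((Nat.even_add.1 hX).1 h8).two_dvd

theorem exists_even [Finite G] (h : R3 G X R k l) {x₀ y₀ : X} (hxy : x₀ ≠ y₀) (hR : ¬ R x₀ y₀) {b : ℕ}
    (hb : com R x₀ y₀ = b) {r s : ℤ} (hrs : r ≠ s) (h2 : r * s = b - k)
    (h1 : (k : ℤ) * (r + s + b) = k * k - k - l * b) (hX : Even (Nat.card X)) : EvenInt G := by
  obtain ⟨χ, i1, i2, -⟩ := exists_even' h hxy hR hb hrs h2 h1 hX
  exact ⟨χ, i1, i2⟩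

end

theorem EvenInt.congr {G : Type u} {H : Type v} [Group G] [Group H] (e : G ≃* H) (h : EvenInt H) : EvenInt G := by
  obtain ⟨χ, h1, h2⟩ := h
  refine ⟨⟨(χ : H → ℂ) ∘ e, isIrr_comp e.toMonoidHom e.surjective χ.2⟩, fun g => h1 (e g), ?_⟩
  show 2 ∣ charDegree ((χ : H → ℂ) ∘ e)
  have h3 : charDegree ((χ : H → ℂ) ∘ e) = charDegree (χ : H → ℂ) := by
    unfold charDegree
    rw [Function.comp_apply, map_one]
  rw [h3]
  exact h2

end Cfsg.Agent.H652.RB

end

section

/-!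
# Integer valued characters of even degree of the classical groups over fields of odd order (helper652, for S4857)

`evenInt_of_form` : from the rank 3 action on the points of a polar space (number of points even);
`evenInt_sp`, `evenInt_plus`, `evenInt_minus`, `evenInt_odd`.
-/

set_option linter.unusedSectionVars false

open scoped ComplexConjugate
open Cfsg

namespace Cfsg.Agent.H652.RB

open Cfsg.Agent.H576.Ext Cfsg.Agent.H464.ExtR3 Cfsg.Agent.H477.HC Cfsg.Agent.H477.HC.CForm Cfsg.Agent.H53.HC Module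
open Cfsg.Agent.H690.Spor.RankThree Cfsg.Agent.H690.Spor.RankThree.R3

universe u v w x

section

variable {K : Type u} [Field K] {V : Type v} [AddCommGroup V] [Module K V] {F : CForm K V} {N : Subgroup F.iso}
  {S : Type w} [Group S] {X : Type x} [AddCommGroup X] [Module K X] {F' : CForm K X} {e f : V} {j : X →ₗ[K] V}

theorem evenInt_of_form [FiniteDimensional K V] [Finite V] [Finite K] [Finite X] [Finite S]
    (h : Hyp F F' e f j) {P P' : ℕ} (hP : 2 ≤ P) (hP' : 1 ≤ P')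
    (hX : Nat.card {x : X // F'.Sing x} = (P - 1) * (P' + 1) + 1)
    (hV : Nat.card {v : V // F.Sing v} = (Nat.card K * P - 1) * (Nat.card K * P' + 1) + 1)
    (hH : ∀ (g : F.iso) (x y : F.Pt), ∃ h ∈ N, h • x = g • x ∧ h • y = g • y)
    (D : SemiQ F N S) (hqo : Odd (Nat.card K)) (hPo : Odd P') (hPd : Nat.card K - 1 ∣ P - 1) : EvenInt S := by
  classical
  have hq : 1 < Nat.card K := Finite.one_lt_card
  obtain ⟨q, hq'⟩ : ∃ q, q = Nat.card K := ⟨_, rfl⟩
  obtain ⟨n, hn⟩ : ∃ n, n = Nat.card F'.Pt := ⟨_, rfl⟩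
  have hb := card_sing (F := F')
  rw [← hn] at hb
  rw [← hq'] at hq hV hb hqo hPd
  have hb1 : (q - 1) * n = (P - 1) * (P' + 1) := by
    rw [hX] at hb
    exact Nat.add_right_cancel hb
  have hn0 : 0 < n := by
    rcases Nat.eq_zero_or_pos n with h0 | h0
    · exfalso
      rw [h0, mul_zero] at hb1
      have : 0 < (P - 1) * (P' + 1) := Nat.mul_pos (by omega) (by omega)
      omega
    · exact h0
  obtain ⟨s, rfl⟩ : ∃ s, q = s + 1 := ⟨q - 1, by omega⟩
  obtain ⟨t, rfl⟩ : ∃ t, P = t + 1 := ⟨P - 1, by omega⟩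
  rw [Nat.add_sub_cancel, Nat.add_sub_cancel] at hb1 hPd
  have hl : (Nat.card K - 1) * (1 + Nat.card K * n + (s + 1) * ((t + 1) * P')) + 1 = Nat.card {v : V // F.Sing v} := by
    rw [hV, ← hq', Nat.add_sub_cancel]
    have e1 : (s + 1) * (t + 1) - 1 = s * t + s + t := by
      have : (s + 1) * (t + 1) = s * t + s + t + 1 := by ring
      omega
    rw [e1]
    have e2 : s * (1 + (s + 1) * n + (s + 1) * ((t + 1) * P')) + 1 =
        s + (s + 1) * (s * n) + s * ((s + 1) * ((t + 1) * P')) + 1 := by ring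
    rw [e2, hb1]
    ring
  obtain ⟨hr3', x₀, y₀, hxy, hR, hcom⟩ := CForm.r3 h (b := n) (l := (s + 1) * ((t + 1) * P')) (by rw [← hq']; exact hb) hl
    hn0 (by positivity) N hH
  let _ := act D
  have hr3 : R3 S F.Pt F.Rel (Nat.card K * n) ((s + 1) * ((t + 1) * P')) :=
    r3_of_surj D.q (act_q D) D.surj hr3'
  have hbZ : (s : ℤ) * n = t * (P' + 1) := by exact_mod_cast hb1
  have := Fintype.ofFinite F.Pt
  have hcard : Even (Nat.card F.Pt) := by
    rw [hr3.cardn, ← hq']
    obtain ⟨c, rfl⟩ := hPd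
    have hs0 : 0 < s := by omega
    have hnc : n = c * (P' + 1) := by
      apply Nat.eq_of_mul_eq_mul_left hs0
      rw [hb1]
      ring
    have hPe : Even (P' + 1) := hPo.add_one
    have h1 : Even ((s + 1) * n) := by
      rw [hnc]
      exact (hPe.mul_left c).mul_left _
    have hse : Even s := by
      by_contra h0
      rw [Nat.not_even_iff_odd] at h0
      exact (Nat.not_odd_iff_even.2 h0.add_one) hqo
    have h2 : Odd (s * c + 1) := (hse.mul_right c).add_one
    have h3 : Odd ((s + 1) * ((s * c + 1) * P')) := hqo.mul (h2.mul hPo)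
    have h4 : Odd (1 + (s + 1) * n) := by
      rw [add_comm]
      exact h1.add_one
    exact h4.add_odd h3
  refine exists_even hr3 hxy hR hcom (r := (t : ℤ)) (s := -(P' : ℤ) - 1) ?_ ?_ ?_ hcard
  · intro h0
    have h1 : (t : ℤ) + 1 + P' = 0 := by rw [h0]; ring
    omega
  · rw [← hq']
    push_cast
    linear_combination hbZ
  · rw [← hq']
    push_cast
    linear_combination (-(((s : ℤ) + 1) * n)) * hbZ

end

section rows

variable (K : Type u) [Field K] [Finite K]

theorem sub_one_dvd (q n : ℕ) : q - 1 ∣ q ^ n - 1 := by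
  simpa using Nat.sub_dvd_pow_sub_pow q 1 n

/-- **`PSp_{2m}(q)`** -/
theorem evenInt_sp {m : ℕ} (hm : 2 ≤ m) (ho : Odd (Nat.card K)) (h2 : (2 : K) ≠ 0) : EvenInt (PSp m K) := by
  classical
  have hfin := Fintype.ofFinite K
  have hq : 2 ≤ Nat.card K := Finite.one_lt_card
  obtain ⟨D, -⟩ := semiQ_sp (K := K) hm (Or.inr h2)
  obtain ⟨n, rfl⟩ : ∃ n, m = n + 1 := ⟨m - 1, by omega⟩
  obtain ⟨e, f, j, hh⟩ := CForm.frm_sp (K := K) (show 1 + n = n + 1 by omega)
  exact evenInt_of_form (N := ⊤) hh.hyp (P := Nat.card K ^ n)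
    (P' := Nat.card K ^ n) (two_le_pow hq (by omega)) (Nat.one_le_pow _ _ (by omega))
    (by
      rw [card_Sing_sp, num_odd hq n])
    (by
      rw [card_Sing_sp, ← pow_succ', ← num_odd hq (n + 1)])
    (fun g x y => ⟨g, Subgroup.mem_top g, rfl, rfl⟩) D ho ho.pow (sub_one_dvd _ _)

/-- **`PΩ⁺_{2m}(q)`** -/
theorem evenInt_plus {m : ℕ} (hm : 4 ≤ m) (ho : Odd (Nat.card K)) : EvenInt (POmega K (quadFormPlus m K)) := by
  classical
  have hfin := Fintype.ofFinite K
  have hq : 2 ≤ Nat.card K := Finite.one_lt_card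
  obtain ⟨D⟩ : Nonempty (SemiQ (plusF K m) (commutator (plusF K m).iso) (POmega K (quadFormPlus m K))) := by
    rcases hm.lt_or_eq with h | h
    · obtain ⟨D, -⟩ := semiQ_plus (K := K) (m := m) (by omega)
      exact ⟨D⟩
    · subst h
      obtain ⟨D, -⟩ := semiQ_plus_four (K := K)
      exact ⟨D⟩
  obtain ⟨n, rfl⟩ : ∃ n, m = n + 2 := ⟨m - 2, by omega⟩
  obtain ⟨e, f, j, h⟩ := CForm.frm_plus (K := K) (show 1 + (n + 1) = n + 2 by omega)
  obtain ⟨e3, f3, j3, h3⟩ := CForm.frm_plus (K := K) (show 3 + (n - 1) = n + 2 by omega)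
  have hc : Fintype.card K = Nat.card K := Nat.card_eq_fintype_card.symm
  have hG : LieClassical.OrthTrans.Good (LieClassical.OrthForms.plusForm (n + 2) K) := by
    apply LieClassical.OrthFinite.good_of_finite (LieClassical.OrthForms.nondeg_plusForm (n + 2) K)
    rw [Module.finrank_fintype_fun_eq_card, Fintype.card_sum, Fintype.card_fin]
    omega
  have hstab := CForm.om_stab (F := CForm.plusF K (n + 2)) (F' := CForm.plusF K (n - 1)) hG
    (fun v => congrFun (LieClassical.OrthForms.coe_plusForm (n + 2) K) v) (plus_hB K (n + 2)) h3 (fun _ => rfl)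
    (fun _ => rfl)
  exact evenInt_of_form h.hyp (P := Nat.card K ^ (n + 1))
    (P' := Nat.card K ^ n) (two_le_pow hq (by omega)) (Nat.one_le_pow _ _ (by omega))
    (by
      rw [card_Sing_quad, ← num_plus hq n]
      exact S0289.result hc (n + 1) (by omega))
    (by
      rw [card_Sing_quad, ← pow_succ', ← pow_succ', ← num_plus hq (n + 1)]
      exact S0289.result hc (n + 2) (by omega))
    hstab D ho ho.pow (sub_one_dvd _ _)

/-- **`PΩ⁻_{2l+2}(q)`** -/
theorem evenInt_minus (a b : K) (hab : ∀ z₁ z₂ : K, z₁ ^ 2 + a * z₁ * z₂ + b * z₂ ^ 2 = 0 → z₁ = 0 ∧ z₂ = 0) {l : ℕ}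
    (hl : 3 ≤ l) (ho : Odd (Nat.card K)) : EvenInt (POmega K (quadFormMinus l K a b)) := by
  classical
  have hfin := Fintype.ofFinite K
  have hq : 2 ≤ Nat.card K := Finite.one_lt_card
  obtain ⟨D, -⟩ := semiQ_minus (K := K) hl hab
  obtain ⟨n, rfl⟩ : ∃ n, l = n + 1 := ⟨l - 1, by omega⟩
  obtain ⟨e, f, j, h⟩ := CForm.frm_minus (K := K) hab (show 1 + n = n + 1 by omega)
  obtain ⟨e3, f3, j3, h3⟩ := CForm.frm_minus (K := K) hab (show 3 + (n - 2) = n + 1 by omega)
  have hc : Fintype.card K = Nat.card K := Nat.card_eq_fintype_card.symm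
  have hG : LieClassical.OrthTrans.Good (LieClassical.OrthForms.minusForm (n + 1) K a b) := by
    apply LieClassical.OrthFinite.good_of_finite (LieClassical.OrthForms.nondeg_minusForm (n + 1) K a b hab)
    rw [Module.finrank_fintype_fun_eq_card, Fintype.card_sum, Fintype.card_sum, Fintype.card_fin, Fintype.card_fin]
    omega
  have hstab := CForm.om_stab (F := CForm.minusF K (n + 1) a b hab) (F' := CForm.minusF K (n - 2) a b hab) hG
    (fun v => congrFun (LieClassical.OrthForms.coe_minusForm (n + 1) K a b) v) (minus_hB K (n + 1) a b hab) h3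
    (fun _ => rfl) (fun _ => rfl)
  exact evenInt_of_form h.hyp (P := Nat.card K ^ n)
    (P' := Nat.card K ^ (n + 1)) (two_le_pow hq (by omega)) (Nat.one_le_pow _ _ (by omega))
    (by
      rw [card_Sing_quad, ← num_minus hq n]
      exact S0290.result hc (n + 1) (by omega) a b hab)
    (by
      rw [card_Sing_quad, ← pow_succ', ← pow_succ', ← num_minus hq (n + 1)]
      exact S0290.result hc (n + 2) (by omega) a b hab)
    hstab D ho ho.pow (sub_one_dvd _ _)

/-- **`PΩ_{2m+1}(q)`** -/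
theorem evenInt_odd (h2 : (2 : K) ≠ 0) (ho : Odd (Nat.card K)) {m : ℕ} (hm : 3 ≤ m) :
    EvenInt (POmega K (quadFormOdd m K)) := by
  classical
  have hfin := Fintype.ofFinite K
  have hq : 2 ≤ Nat.card K := Finite.one_lt_card
  obtain ⟨D, -⟩ := semiQ_odd (K := K) hm h2
  obtain ⟨n, rfl⟩ : ∃ n, m = n + 1 := ⟨m - 1, by omega⟩
  obtain ⟨e, f, j, h⟩ := CForm.frm_odd (K := K) h2 (show 1 + n = n + 1 by omega)
  obtain ⟨e3, f3, j3, h3⟩ := CForm.frm_odd (K := K) h2 (show 3 + (n - 2) = n + 1 by omega)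
  have hc : Fintype.card K = Nat.card K := Nat.card_eq_fintype_card.symm
  have hG : LieClassical.OrthTrans.Good (LieClassical.OrthForms.oddForm (n + 1) K) := by
    apply LieClassical.OrthFinite.good_of_finite (LieClassical.OrthForms.nondeg_oddForm (n + 1) K h2)
    rw [Module.finrank_fintype_fun_eq_card, Fintype.card_sum, Fintype.card_sum, Fintype.card_fin, Fintype.card_unit]
    omega
  have hstab := CForm.om_stab (F := CForm.oddF K (n + 1) h2) (F' := CForm.oddF K (n - 2) h2) hG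
    (fun v => congrFun (LieClassical.OrthForms.coe_oddForm (n + 1) K) v) (odd_hB K (n + 1) h2) h3
    (fun _ => rfl) (fun _ => rfl)
  exact evenInt_of_form h.hyp (P := Nat.card K ^ n)
    (P' := Nat.card K ^ n) (two_le_pow hq (by omega)) (Nat.one_le_pow _ _ (by omega))
    (by
      rw [card_Sing_quad, ← num_odd hq n]
      exact S0291.result hc ho n)
    (by
      rw [card_Sing_quad, ← pow_succ', ← num_odd hq (n + 1)]
      exact S0291.result hc ho (n + 1))
    hstab D ho ho.pow (sub_one_dvd _ _)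

end rows

end Cfsg.Agent.H652.RB

end

section

/-!
# Integer valued characters of even degree of `PSU_n(q)`, `n ≥ 4`, `q` odd (helper652, for S4857)
-/

set_option linter.unusedSectionVars false

namespace Cfsg.Agent.H652.RB

open Cfsg Cfsg.Agent.LieClassical.HermBasic Cfsg.Agent.LieClassical.HermSiegel
open Cfsg.Agent.H690.Spor.RankThree Cfsg.Agent.H690.Spor.RankThree.R3 Cfsg.Agent.H113.PSU Cfsg.Agent.H113.PSU.Points

universe u

variable {F : Type u} [Field F] [Fintype F] {q m : ℕ}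

/-- `b = (q^m - (-1)^m) (q^(m-1) + (-1)^m) / (q² - 1)` is even for `q` odd -/
theorem even_b (hq : 2 ≤ q) (ho : Odd q) (hm : 2 ≤ m) {b : ℕ}
    (hb : ((q : ℤ) ^ 2 - 1) * b = ((q : ℤ) ^ m - (-1) ^ m) * (q ^ (m - 1) + (-1) ^ m)) : Even b := by
  have hq2 : (1 : ℤ) < q := by exact_mod_cast (by omega : 1 < q)
  have hpos : (0 : ℤ) < (q : ℤ) ^ 2 - 1 := by nlinarith
  have hqo : Odd (q : ℤ) := by exact_mod_cast ho
  have key : ∀ t : ℕ, ((q : ℤ) ^ 2 - 1) ∣ (q : ℤ) ^ (2 * t) - 1 := by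
    intro t
    rw [pow_mul]
    simpa using sub_dvd_pow_sub_pow ((q : ℤ) ^ 2) 1 t
  have hbe : Even (b : ℤ) := by
    rcases Nat.even_or_odd m with h | h
    · obtain ⟨t, ht⟩ := h
      obtain ⟨c, hc⟩ := key t
      have e1 : (-1 : ℤ) ^ m = 1 := by rw [ht]; exact Even.neg_one_pow ⟨t, rfl⟩
      have e2 : (q : ℤ) ^ m = (q : ℤ) ^ (2 * t) := by rw [ht, two_mul]
      rw [e1, e2, hc] at hb
      have h3 : (b : ℤ) = c * ((q : ℤ) ^ (m - 1) + 1) := by
        apply mul_left_cancel₀ hpos.ne'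
        linear_combination hb
      rw [h3]
      exact (hqo.pow.add_one).mul_left c
    · obtain ⟨t, ht⟩ := h
      obtain ⟨c, hc⟩ := key t
      have e1 : (-1 : ℤ) ^ m = -1 := by rw [ht]; exact Odd.neg_one_pow ⟨t, rfl⟩
      have e2 : m - 1 = 2 * t := by omega
      rw [e1, e2] at hb
      have h3 : (b : ℤ) = ((q : ℤ) ^ m + 1) * c := by
        apply mul_left_cancel₀ hpos.ne'
        linear_combination hb + ((q : ℤ) ^ m + 1) * hc
      rw [h3]
      exact (hqo.pow.add_one).mul_right c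
  exact_mod_cast hbe

/-- **`PSU_n(q)`, `n ≥ 4`** -/
theorem evenInt_psu (hF : Fintype.card F = q ^ 2) (ho : Odd q) {n : ℕ} (hn : 4 ≤ n) : EvenInt (PSU n F q) := by
  classical
  obtain ⟨m, rfl⟩ : ∃ m, n = m + 2 := ⟨n - 2, by omega⟩
  have hm : 2 ≤ m := by omega
  have hq2 := two_le hF
  obtain ⟨b, hb0, hb, hr3, x₀, y₀, hxy, hR, hcom⟩ := r3 (F := F) (m := m) hF hm
  have hbe := even_b hq2 ho hm hb
  have := Fintype.ofFinite (Pt (m + 2) F q)
  obtain ⟨e, he⟩ : ∃ e : ℤ, e = (-1) ^ m := ⟨_, rfl⟩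
  have hee : e * e = 1 := by rw [he, ← mul_pow]; simp
  rw [← he] at hb
  obtain ⟨Q, hQ⟩ : ∃ Q : ℤ, Q = (q : ℤ) := ⟨_, rfl⟩
  have hQ2 : 2 ≤ Q := by rw [hQ]; exact_mod_cast hq2
  obtain ⟨P, hP⟩ : ∃ P : ℤ, P = (q : ℤ) ^ (m - 1) := ⟨_, rfl⟩
  have hP0 : 0 < P := by rw [hP]; positivity
  have hm0 : (q : ℤ) ^ m = Q * P := by
    rw [hP, hQ, ← pow_succ']; congr 1; omega
  have hm1 : (q : ℤ) ^ (m + 1) = Q ^ 2 * P := by rw [pow_succ, hm0, ← hQ]; ring
  have hl : ((q ^ (2 * m + 1) : ℕ) : ℤ) = Q ^ 3 * P ^ 2 := by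
    push_cast
    have : 2 * m + 1 = m + (m + 1) := by ring
    rw [this, pow_add, hm0, hm1]; ring
  rw [hm0, ← hP, ← hQ] at hb
  have hne : e ≠ 0 := by rintro rfl; rw [zero_mul] at hee; exact zero_ne_one hee
  have hd : (e * (Q * P) - 1) - (-(e * P) - 1) ≠ 0 := by
    have : (e * (Q * P) - 1) - (-(e * P) - 1) = e * P * (Q + 1) := by ring
    rw [this]
    exact mul_ne_zero (mul_ne_zero hne hP0.ne') (by omega)
  have hX : Even (Nat.card (Pt (m + 2) F q)) := by
    rw [hr3.cardn]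
    have h1 : Odd (1 + q ^ 2 * b) := by
      rw [add_comm]
      exact (hbe.mul_left _).add_one
    exact h1.add_odd ho.pow
  obtain ⟨χ, i1, i2, h3⟩ := exists_even' hr3 hxy hR hcom
    (r := e * (Q * P) - 1) (s := -(e * P) - 1) (sub_ne_zero.1 hd)
    (by push_cast; rw [← hQ]; linear_combination hb - (Q * P ^ 2) * hee - hee)
    (by
      rw [hl]; push_cast; rw [← hQ]
      linear_combination (-(Q ^ 2 * b)) * hb + (Q ^ 2 * b) * hee) hX
  have hcen : ∀ z ∈ Subgroup.center (SU (m + 2) F q), ∀ y : Pt (m + 2) F q, z • y = y := by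
    intro z hz y
    obtain ⟨c, hc, -, hc'⟩ := Cfsg.Agent.ClassicalGeometry.PSUAutBasic.exists_scalar_of_mem_center hF (by omega) hz
    obtain ⟨v, h0, hv, rfl⟩ := exists_pt y
    rw [smul_pt, pt_eq_iff]
    exact ⟨c, hc, hc' v⟩
  obtain ⟨η, hη, hη'⟩ := Cfsg.Agent.H477.HC.exists_quot (Subgroup.center (SU (m + 2) F q)) χ.2
    (fun z hz => h3 z (hcen z hz))
  refine ⟨⟨η, hη⟩, ?_, ?_⟩
  · intro g
    obtain ⟨x, rfl⟩ := QuotientGroup.mk_surjective g
    obtain ⟨z, hz⟩ := i1 x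
    exact ⟨z, by rw [← hz]; exact hη' x⟩
  · have h4 : charDegree η = charDegree (χ : SU (m + 2) F q → ℂ) := by
      unfold charDegree
      rw [← hη' 1]
      rfl
    show 2 ∣ charDegree η
    rw [h4]
    exact i2

end Cfsg.Agent.H652.RB

end

section

/-!
# Characters with good values and degree not a power of `r` (helper652, for S4857)
-/


namespace Cfsg.Agent.H652.RB

open Cfsg Cfsg.Agent.H145.BR Cfsg.Agent.H685.BR Cfsg.Agent.Characters.Core

universe u v

/-- an irreducible character with good values whose degree is divisible by a prime different from `r` -/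
def GoodDeg (r : ℕ) (G : Type u) [Group G] : Prop :=
  ∃ χ : IrrCharacter G, Good r (χ : G → ℂ) ∧ ∃ p : ℕ, p.Prime ∧ p ≠ r ∧ p ∣ charDegree (χ : G → ℂ)

theorem EvenInt.goodDeg {r : ℕ} [Fact r.Prime] (h2 : r ≠ 2) {G : Type u} [Group G] (h : EvenInt G) : GoodDeg r G := by
  obtain ⟨χ, h1, h3⟩ := h
  exact ⟨χ, good_of_int h1, 2, Nat.prime_two, h2.symm, h3⟩

theorem GoodDeg.congr {r : ℕ} {G : Type u} {H : Type v} [Group G] [Group H] (e : G ≃* H) (h : GoodDeg r H) :
    GoodDeg r G := by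
  obtain ⟨χ, ⟨h1, h2⟩, p, hp, hpr, hd⟩ := h
  refine ⟨⟨(χ : H → ℂ) ∘ e, isIrr_comp e.toMonoidHom e.surjective χ.2⟩, ⟨fun h => fun g => h1 h (e g), fun h =>
    ⟨fun g => (h2 h).1 (e g), ?_⟩⟩, p, hp, hpr, ?_⟩
  · obtain ⟨n, hn, hv⟩ := (h2 h).2
    exact ⟨n, hn, fun g => hv (e g)⟩
  · show p ∣ charDegree ((χ : H → ℂ) ∘ e)
    have h3 : charDegree ((χ : H → ℂ) ∘ e) = charDegree (χ : H → ℂ) := by
      unfold charDegree
      rw [Function.comp_apply, map_one]
    rw [h3]
    exact hd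

/-- a degree prime to `r` and greater than one -/
theorem exists_prime_ne {r n : ℕ} (h : ¬ r ∣ n) (h1 : 1 < n) : ∃ p : ℕ, p.Prime ∧ p ≠ r ∧ p ∣ n := by
  obtain ⟨p, hp, hpn⟩ := Nat.exists_prime_and_dvd (n := n) (by omega)
  exact ⟨p, hp, fun h2 => h (h2 ▸ hpn), hpn⟩

end Cfsg.Agent.H652.RB

end

section

/-!
# Values of induced functions (helper652, for S4857)
-/


namespace Cfsg.Agent.H652.RB

open Cfsg Cfsg.Agent.Characters.Core

universe u

theorem indFun_mem {G : Type u} [Group G] [Fintype G] {H : Subgroup G} {φ : H → ℂ} (V : Submodule ℚ ℂ)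
    (h : ∀ x, φ x ∈ V) (g : G) : indFun H φ g ∈ V := by
  classical
  rw [indFun_apply]
  have h1 : (Nat.card H : ℂ)⁻¹ * ∑ x : G, extendByZero H φ (x⁻¹ * g * x) =
      ((Nat.card H : ℚ)⁻¹) • ∑ x : G, extendByZero H φ (x⁻¹ * g * x) := by
    rw [Rat.smul_def]
    push_cast
    rfl
  rw [h1]
  refine V.smul_mem _ (V.sum_mem fun x _ => ?_)
  by_cases hx : x⁻¹ * g * x ∈ H
  · rw [extendByZero_of_mem _ _ hx]
    exact h _
  · rw [extendByZero_of_notMem _ _ hx]
    exact V.zero_mem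

theorem mem_adjoin_of_pow_eq_one {n : ℕ} (hn : n ≠ 0) {z : ℂ} (hz : z ^ n = 1) :
    z ∈ IntermediateField.adjoin ℚ ({Complex.exp (2 * Real.pi * Complex.I / n)} : Set ℂ) := by
  have : NeZero n := ⟨hn⟩
  have hr := Complex.isPrimitiveRoot_exp n hn
  generalize Complex.exp (2 * Real.pi * Complex.I / n) = w at hr ⊢
  obtain ⟨k, -, hk⟩ := hr.eq_pow_of_pow_eq_one hz
  rw [← hk]
  exact pow_mem (IntermediateField.mem_adjoin_simple_self ℚ w) k

/-- a primitive cube root of unity -/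
noncomputable def om : ℂ := ⟨-1 / 2, Real.sqrt 3 / 2⟩

theorem om_sq : om ^ 2 = -1 - om := by
  have h3 : Real.sqrt 3 * Real.sqrt 3 = 3 := Real.mul_self_sqrt (by norm_num)
  apply Complex.ext
  · rw [sq, Complex.mul_re]
    simp only [om, Complex.sub_re, Complex.neg_re, Complex.one_re]
    nlinarith
  · rw [sq, Complex.mul_im]
    simp only [om, Complex.sub_im, Complex.neg_im, Complex.one_im]
    ring

/-- the span of the cube roots of unity -/
noncomputable def V3 : Submodule ℚ ℂ := Submodule.span ℚ {1, om}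

theorem one_mem_V3 : (1 : ℂ) ∈ V3 := Submodule.subset_span (by simp)

theorem om_mem_V3 : om ∈ V3 := Submodule.subset_span (by simp)

theorem mem_V3_of_cube {z : ℂ} (hz : z ^ 3 = 1) : z ∈ V3 := by
  have h1 : (z - 1) * ((z - om) * (z - (-1 - om))) = 0 := by
    have := om_sq
    linear_combination hz + (z - 1) * (-om_sq)
  rcases mul_eq_zero.1 h1 with h | h
  · rw [sub_eq_zero.1 h]
    exact one_mem_V3
  · rcases mul_eq_zero.1 h with h | h
    · rw [sub_eq_zero.1 h]
      exact om_mem_V3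
    · rw [sub_eq_zero.1 h]
      exact V3.sub_mem (V3.neg_mem one_mem_V3) om_mem_V3

theorem rat_of_mem_V3 {z : ℂ} (hz : z ∈ V3) (h : z.im = 0) : ∃ k : ℚ, z = k := by
  obtain ⟨a, b, hab⟩ := Submodule.mem_span_pair.1 hz
  have h3 : (0 : ℝ) < Real.sqrt 3 := Real.sqrt_pos.2 (by norm_num)
  rw [Rat.smul_def, Rat.smul_def, mul_one] at hab
  have h4 : z.im = b * (Real.sqrt 3 / 2) := by
    rw [← hab]
    simp [om]
  rw [h] at h4
  have h5 : (b : ℝ) = 0 := by
    rcases mul_eq_zero.1 h4.symm with h6 | h6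
    · exact h6
    · exfalso
      linarith
  have h6 : b = 0 := by exact_mod_cast h5
  rw [h6] at hab
  exact ⟨a, by rw [← hab]; simp⟩

end Cfsg.Agent.H652.RB

end

section

/-!
# Integer valued characters of `PSL_n(q)`, `n ≥ 3` (helper652, for S4857)
-/


namespace Cfsg.Agent.H652.RB

open Cfsg Cfsg.Agent.H145.BR Cfsg.Agent.H685.BR MulAction

universe u v

theorem goodDeg_psl {F : Type u} [Field F] [Fintype F] {r : ℕ} [hr : Fact r.Prime] [CharP F r] {n : ℕ} (hn : 3 ≤ n) :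
    GoodDeg r (Matrix.ProjectiveSpecialLinearGroup (Fin n) F) := by
  classical
  obtain ⟨q, hq⟩ : ∃ q, q = Nat.card F := ⟨_, rfl⟩
  have hq1 : 1 < q := by rw [hq]; exact Finite.one_lt_card
  have hrq : r ∣ q := by
    obtain ⟨k, -, hk⟩ := FiniteField.card F r
    rw [hq, Nat.card_eq_fintype_card, hk]
    exact dvd_pow_self r k.ne_zero
  have h2 := H690.LThreeFour.two_trans n F
  have hc : Nat.card (Projectivization F (Fin n → F)) = ∑ i ∈ Finset.range n, q ^ i := by
    have h3 := Projectivization.card_of_finrank F (Fin n → F) (n := n) (by simp)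
    rw [h3, hq]
  obtain ⟨m, rfl⟩ : ∃ m, n = m + 3 := ⟨n - 3, by omega⟩
  have hc' : Nat.card (Projectivization F (Fin (m + 3) → F)) = 1 + q * ∑ i ∈ Finset.range (m + 2), q ^ i := by
    rw [hc, Finset.sum_range_succ', pow_zero, add_comm, Finset.mul_sum]
    congr 1
    exact Finset.sum_congr rfl fun i _ => pow_succ' q i
  have hs : 1 < ∑ i ∈ Finset.range (m + 2), q ^ i := by
    rw [Finset.sum_range_succ', pow_zero, Finset.sum_range_succ']
    have : 0 < q ^ (0 + 1) := by positivity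
    omega
  have hs' : ¬ r ∣ ∑ i ∈ Finset.range (m + 2), q ^ i := by
    rw [Finset.sum_range_succ', pow_zero]
    intro h
    have h5 : r ∣ ∑ i ∈ Finset.range (m + 1), q ^ (i + 1) := by
      refine Finset.dvd_sum fun i _ => ?_
      exact hrq.trans (dvd_pow_self q (by omega))
    exact hr.out.one_lt.ne' (Nat.dvd_one.1 ((Nat.dvd_add_right h5).1 h))
  have : Finite (Projectivization F (Fin (m + 3) → F)) := Nat.finite_of_card_ne_zero (by omega)
  have h1 : IsPretransitive (Matrix.ProjectiveSpecialLinearGroup (Fin (m + 3)) F)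
      (Projectivization F (Fin (m + 3) → F)) := isPretransitive_of_is_two_pretransitive
  have h3 := (Cfsg.Agent.S0157.result (Projectivization F (Fin (m + 3) → F)) (by rw [hc']; nlinarith)).2 h2
  have h4 : (fixedBy (Projectivization F (Fin (m + 3) → F))
      (1 : Matrix.ProjectiveSpecialLinearGroup (Fin (m + 3)) F)) = Set.univ := fixedBy_one_eq_univ _ _
  have h5 : (fun g : Matrix.ProjectiveSpecialLinearGroup (Fin (m + 3)) F =>
      (Nat.card (fixedBy (Projectivization F (Fin (m + 3) → F)) g) : ℂ) - 1) 1 =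
        ((q * ∑ i ∈ Finset.range (m + 2), q ^ i : ℕ) : ℂ) := by
    change ((Nat.card ↥(fixedBy (Projectivization F (Fin (m + 3) → F))
      (1 : Matrix.ProjectiveSpecialLinearGroup (Fin (m + 3)) F)) : ℕ) : ℂ) - 1 = _
    rw [h4, Nat.card_univ, hc']
    push_cast
    ring
  obtain ⟨p, hp, hpr, hpd⟩ := exists_prime_ne hs' hs
  refine ⟨⟨_, h3⟩, good_of_int fun g => ⟨(Nat.card (fixedBy (Projectivization F (Fin (m + 3) → F)) g) : ℤ) - 1, ?_⟩,
    p, hp, hpr, ?_⟩
  · push_cast
    rfl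
  · rw [Cfsg.Agent.Blocks.Basic.charDegree_of_eq h5]
    exact hpd.mul_left q

end Cfsg.Agent.H652.RB

end

section

/-!
# Characters of `PSL₂(q)` with good values, `q` odd (helper652, for S4857)
-/

set_option linter.unusedSectionVars false

namespace Cfsg.Agent.H652.RB

open Matrix Cfsg Cfsg.Agent.H984.EigCount Cfsg.Agent.H984.SLTwo Cfsg.Agent.Characters.Core
open Cfsg.Agent.H145.BR Cfsg.Agent.H685.BR
open scoped ComplexConjugate

universe u

/-- descent to a quotient -/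
theorem GoodDeg.quot {r : ℕ} {G : Type u} [Group G] [Finite G] (N : Subgroup G) [N.Normal] {χ : G → ℂ}
    (hχ : IsIrrCharacter G χ) (h : ∀ z ∈ N, χ z = χ 1) (hg : Good r χ)
    (hd : ∃ p : ℕ, p.Prime ∧ p ≠ r ∧ p ∣ charDegree χ) : GoodDeg r (G ⧸ N) := by
  obtain ⟨η, hη, hη'⟩ := Cfsg.Agent.H477.HC.exists_quot N hχ h
  obtain ⟨p, hp, hpr, hpd⟩ := hd
  refine ⟨⟨η, hη⟩, ⟨fun h3 g => ?_, fun h3 => ⟨fun g => ?_, ?_⟩⟩, p, hp, hpr, ?_⟩
  · obtain ⟨x, rfl⟩ := QuotientGroup.mk_surjective g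
    show ∃ q : ℚ, η (x : G ⧸ N) = (q : ℂ)
    rw [hη']
    exact hg.1 h3 x
  · obtain ⟨x, rfl⟩ := QuotientGroup.mk_surjective g
    show (η (x : G ⧸ N)).im = 0
    rw [hη']
    exact (hg.2 h3).1 x
  · obtain ⟨n, hn, hv⟩ := (hg.2 h3).2
    refine ⟨n, hn, fun g => ?_⟩
    obtain ⟨x, rfl⟩ := QuotientGroup.mk_surjective g
    show η (x : G ⧸ N) ∈ _
    rw [hη']
    exact hv x
  · show p ∣ charDegree η
    have h4 : charDegree η = charDegree χ := by
      unfold charDegree
      rw [← hη' 1]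
      rfl
    rw [h4]
    exact hpd

theorem im_zero_of_conj {z : ℂ} (h : conj z = z) : z.im = 0 := Complex.conj_eq_iff_im.1 h

section

variable {F : Type u} [Field F] [DecidableEq F] [Fintype F]

local notation "SL" => Matrix.SpecialLinearGroup (Fin 2) F
local notation "M₂" => Matrix (Fin 2) (Fin 2) F

theorem isIrr_R {α : MulChar F ℂ} (h : α⁻¹ ≠ α) : IsIrrCharacter SL (R α) := by
  classical
  apply isIrr_of_classInner_self (isCharacter_R α)
  rw [classInner_R_R, if_pos rfl, if_neg (Ne.symm h), add_zero]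

theorem conj_R (α : MulChar F ℂ) (x : SL) : conj (R α x) = R α⁻¹ x := by
  classical
  unfold R
  rw [indFun_apply, indFun_apply, map_mul, map_inv₀, Complex.conj_natCast, map_sum]
  congr 1
  refine Finset.sum_congr rfl fun y _ => ?_
  by_cases hy : y⁻¹ * x * y ∈ Bor F
  · rw [extendByZero_of_mem _ _ hy, extendByZero_of_mem _ _ hy, conj_mulChar]
  · rw [extendByZero_of_notMem _ _ hy, extendByZero_of_notMem _ _ hy, map_zero]

theorem real_R {α : MulChar F ℂ} (h : α⁻¹ ≠ α) (x : SL) : (R α x).im = 0 := by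
  classical
  have i2 : IsIrrCharacter SL (R α⁻¹) := isIrr_R (by rw [inv_inv]; exact Ne.symm h)
  have h2 : R α = R α⁻¹ := by
    by_contra hne
    have h1 := classInner_irr_ne (isIrr_R h) i2 hne
    rw [classInner_R_R, if_neg (Ne.symm h), if_pos (inv_inv α).symm, zero_add] at h1
    exact one_ne_zero h1
  apply im_zero_of_conj
  rw [conj_R, ← h2]

theorem R_one (α : MulChar F ℂ) : R α 1 = (Fintype.card F : ℂ) + 1 := by
  have h := R_upp_zero α (a := 1) inv_one
  rw [upp_one_zero] at h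
  rw [h]
  simp

theorem R_z0 {α : MulChar F ℂ} (h : α (-1) = 1) : R α z0 = (Fintype.card F : ℂ) + 1 := by
  have h1 := R_upp_zero α (a := -1) neg_one_inv
  rw [Units.val_neg, Units.val_one, h, mul_one] at h1
  exact h1

theorem center_cases {z : SL} (hz : z ∈ Subgroup.center SL) : z = 1 ∨ z = z0 := by
  rcases scalar_cases (not_NS_of_mem_center hz) with h | h
  · left
    rw [h, upp_one_zero]
  · right
    exact h

/-- principal series -/
theorem goodDeg_R {r : ℕ} [hr : Fact r.Prime] [CharP F r] (h2 : r ≠ 2) {α : MulChar F ℂ} (h : α⁻¹ ≠ α) (h1 : α (-1) = 1)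
    (hg : Good r (R α)) : GoodDeg r (Matrix.ProjectiveSpecialLinearGroup (Fin 2) F) := by
  refine GoodDeg.quot (Subgroup.center SL) (isIrr_R h) ?_ hg ?_
  · intro z hz
    rcases center_cases hz with rfl | rfl
    · rfl
    · rw [R_z0 h1, R_one]
  · refine ⟨2, Nat.prime_two, h2.symm, ?_⟩
    have hd : charDegree (R α) = Fintype.card F + 1 := by
      apply Cfsg.Agent.Blocks.Basic.charDegree_of_eq
      rw [R_one]
      push_cast
      rfl
    rw [hd]
    obtain ⟨k, -, hk⟩ := FiniteField.card F r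
    rw [hk]
    exact ((hr.out.odd_of_ne_two h2).pow.add_one).two_dvd

theorem mulChar_neg_one_of_odd {α : MulChar F ℂ} {n : ℕ} (hn : Odd n) (h : α ^ n = 1) : α (-1) = 1 := by
  have h1 := sq_mulChar_neg_one α
  have h2 : α (-1) ^ n = 1 := by
    have h3 := congrArg (fun β : MulChar F ℂ => β ((-1 : Fˣ) : F)) h
    simp only [MulChar.pow_apply_coe, MulChar.one_apply_coe] at h3
    rwa [Units.val_neg, Units.val_one] at h3
  obtain ⟨m, rfl⟩ := hn
  rw [pow_succ, pow_mul, h1, one_pow, one_mul] at h2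
  exact h2

theorem mulChar_mem {V : Submodule ℚ ℂ} {n : ℕ} (h1 : ∀ z : ℂ, z ^ n = 1 → z ∈ V) {α : MulChar F ℂ} (h : α ^ n = 1)
    (a : F) : α a ∈ V := by
  by_cases ha : a = 0
  · rw [ha, MulChar.map_zero]
    exact V.zero_mem
  · apply h1
    have h3 := congrArg (fun β : MulChar F ℂ => β ((Units.mk0 a ha : Fˣ) : F)) h
    simp only [MulChar.pow_apply_coe, MulChar.one_apply_coe] at h3
    exact h3

/-- `p = 3` -/
theorem goodDeg_psl2_three [CharP F 3] (hc : 4 ≤ Fintype.card F) :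
    GoodDeg 3 (Matrix.ProjectiveSpecialLinearGroup (Fin 2) F) := by
  have : Fact (Nat.Prime 3) := ⟨Nat.prime_three⟩
  have h0 : Fintype.card F - 1 ≠ 0 := by omega
  obtain ⟨ω, hω⟩ := MulChar.exists_mulChar_orderOf F (n := Fintype.card F - 1) dvd_rfl (Complex.isPrimitiveRoot_exp _ h0)
  obtain ⟨k, -, hk⟩ := FiniteField.card F 3
  have h3 : 3 ∣ Fintype.card F := by
    rw [hk]
    exact dvd_pow_self 3 k.ne_zero
  have hmod : ¬ (Fintype.card F - 1) ∣ 4 := by
    intro h
    have h5 := Nat.le_of_dvd (by norm_num) h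
    have h6 : Fintype.card F ≤ 5 := by omega
    interval_cases hcc : Fintype.card F
    · omega
    · omega
  have hne : (ω ^ 2)⁻¹ ≠ ω ^ 2 := by
    intro h
    apply hmod
    rw [← hω]
    apply orderOf_dvd_of_pow_eq_one
    have h5 : ω ^ 2 * ω ^ 2 = 1 := by
      nth_rewrite 1 [← h]
      exact inv_mul_cancel _
    rw [← h5, ← pow_add]
  refine goodDeg_R (by norm_num) hne ?_ (good_of_real_pRat rfl (real_R hne) ⟨Fintype.card F - 1, ?_, fun g => ?_⟩)
  · have h5 := sq_mulChar_neg_one ω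
    have h6 := MulChar.pow_apply_coe ω 2 (-1 : Fˣ)
    rw [Units.val_neg, Units.val_one] at h6
    rw [h6, h5]
  · intro h
    have : 3 ∣ 1 := by
      have h5 := Nat.dvd_sub h3 h
      have h6 : Fintype.card F - (Fintype.card F - 1) = 1 := by omega
      rwa [h6] at h5
    omega
  · have h5 : R (ω ^ 2) g ∈ (Subalgebra.toSubmodule (IntermediateField.adjoin ℚ
        ({Complex.exp (2 * Real.pi * Complex.I / (Fintype.card F - 1 : ℕ))} : Set ℂ)).toSubalgebra) := by
      unfold R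
      apply indFun_mem
      intro b
      apply mulChar_mem (n := Fintype.card F - 1) (α := ω ^ 2) (fun z hz => mem_adjoin_of_pow_eq_one h0 hz)
      rw [← pow_mul, mul_comm, pow_mul, ← hω, pow_orderOf_eq_one, one_pow]
    exact h5

variable {g : Matrix.SpecialLinearGroup (Fin 2) F}

theorem conj_I (θ : Subgroup.centralizer ({g} : Set SL) →* ℂˣ) (x : SL) : conj (I θ x) = I θ⁻¹ x := by
  classical
  unfold I
  rw [indFun_apply, indFun_apply, map_mul, map_inv₀, Complex.conj_natCast, map_sum]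
  congr 1
  refine Finset.sum_congr rfl fun y _ => ?_
  by_cases hy : y⁻¹ * x * y ∈ Subgroup.centralizer ({g} : Set SL)
  · rw [extendByZero_of_mem _ _ hy, extendByZero_of_mem _ _ hy, conj_hom, MonoidHom.inv_apply]
  · rw [extendByZero_of_notMem _ _ hy, extendByZero_of_notMem _ _ hy, map_zero]

theorem hom_z0_of_odd {n : ℕ} (hn : Odd n) {θ : Subgroup.centralizer ({g} : Set SL) →* ℂˣ} (h : θ ^ n = 1) :
    (θ ⟨z0, z0_mem g⟩ : ℂ) = 1 := by
  have h1 : (θ ⟨z0, z0_mem g⟩ : ℂ) ^ n = 1 := by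
    have h2 := congrArg (fun f => ((f ⟨z0, z0_mem g⟩ : ℂˣ) : ℂ)) h
    simpa using h2
  rcases hom_z0_cases θ with h2 | h2
  · exact h2
  · rw [h2, hn.neg_one_pow] at h1
    norm_num at h1

/-- discrete series of order three -/
theorem goodDeg_X {r : ℕ} [hr : Fact r.Prime] [CharP F r] (h2 : r ≠ 2) (hg : Ell (g : M₂))
    {θ : Subgroup.centralizer ({g} : Set SL) →* ℂˣ} (h3 : θ ^ 3 = 1) (h1 : θ ≠ 1) :
    GoodDeg r (Matrix.ProjectiveSpecialLinearGroup (Fin 2) F) := by
  classical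
  have hch : ringChar F ≠ 2 := by
    rw [ringChar.eq F r]
    exact h2
  have hsq : ∀ {η : Subgroup.centralizer ({g} : Set SL) →* ℂˣ}, η ^ 3 = 1 → η ≠ 1 → η ^ 2 ≠ 1 := by
    intro η h4 h5 h6
    apply h5
    apply MonoidHom.ext
    intro c
    have h7 : η c ^ 3 = 1 := by rw [← MonoidHom.pow_apply, h4, MonoidHom.one_apply]
    have h8 : η c ^ 2 = 1 := by rw [← MonoidHom.pow_apply, h6, MonoidHom.one_apply]
    rw [pow_succ, h8, one_mul] at h7
    exact h7
  have h3' : θ⁻¹ ^ 3 = 1 := by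
    apply MonoidHom.ext
    intro c
    rw [MonoidHom.pow_apply, MonoidHom.inv_apply, inv_pow, ← MonoidHom.pow_apply, h3, MonoidHom.one_apply, inv_one]
  have h1' : θ⁻¹ ≠ 1 := by
    intro h
    apply h1
    apply MonoidHom.ext
    intro c
    have h7 : (θ⁻¹) c = 1 := by rw [h, MonoidHom.one_apply]
    rw [MonoidHom.inv_apply, inv_eq_one] at h7
    rw [h7, MonoidHom.one_apply]
  have hone : (1 : MulChar F ℂ) (-1) = 1 := by
    have h5 := MulChar.one_apply_coe (R := F) (R' := ℂ) (-1)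
    rwa [Units.val_neg, Units.val_one] at h5
  have hpar : (1 : MulChar F ℂ) (-1) = (θ ⟨z0, z0_mem g⟩ : ℂ) := by
    rw [hone, hom_z0_of_odd (by decide) h3]
  have hpar' : (1 : MulChar F ℂ) (-1) = (θ⁻¹ ⟨z0, z0_mem g⟩ : ℂ) := by
    rw [hone, hom_z0_of_odd (by decide) h3']
  have i1 := isIrr_X hch hg hpar (hsq h3 h1)
  have i2 := isIrr_X hch hg hpar' (hsq h3' h1')
  have heq : X θ (1 : MulChar F ℂ) = X θ⁻¹ (1 : MulChar F ℂ) := by
    by_contra hne
    have h4 := classInner_irr_ne i1 i2 hne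
    rw [classInner_X, classInner_A_X hch hg hpar', classInner_I_X hch hg hpar (isClassFunction_X θ⁻¹ 1) ?_,
      if_neg (hsq h3 h1)] at h4
    · norm_num at h4
    · intro c hc
      by_cases hNS : NS (c : M₂)
      · rw [X_ell hg _ _ hc hNS, X_ell hg _ _ hc hNS, MonoidHom.inv_apply, inv_inv, add_comm]
      · rcases scalar_cases hNS with h5 | h5
        · rw [h5, upp_one_zero, X_one hg, X_one hg]
        · have h6 : c = z0 := h5
          rw [h6, X_z0 hg hpar, X_z0 hg hpar']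
  have hR : ∀ x : SL, ∃ k : ℚ, R (1 : MulChar F ℂ) x = k := by
    intro x
    have h5 : R (1 : MulChar F ℂ) x ∈ (Submodule.span ℚ {(1 : ℂ)}) := by
      unfold R
      apply indFun_mem
      intro b
      by_cases hb : (((b : SL) : M₂) 0 0) = 0
      · rw [hb, MulChar.map_zero]
        exact Submodule.zero_mem _
      · rw [MulChar.one_apply (IsUnit.mk0 _ hb)]
        exact Submodule.mem_span_singleton_self _
    obtain ⟨k, hk⟩ := Submodule.mem_span_singleton.1 h5
    exact ⟨k, by rw [← hk, Rat.smul_def, mul_one]⟩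
  have hA : ∀ x : SL, ∃ k : ℚ, A (1 : MulChar F ℂ) x = k := by
    intro x
    obtain ⟨k, hk⟩ := hR x
    exact ⟨(k - 2) * k, by rw [A, hk]; push_cast; rfl⟩
  have hrat : ∀ x : SL, ∃ k : ℚ, X θ (1 : MulChar F ℂ) x = k := by
    intro x
    obtain ⟨k, hk⟩ := hA x
    apply rat_of_mem_V3
    · unfold X
      refine V3.sub_mem ?_ ?_
      · rw [hk]
        have h5 := V3.smul_mem k one_mem_V3
        rwa [Rat.smul_def, mul_one] at h5
      · unfold I
        apply indFun_mem
        intro c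
        apply mem_V3_of_cube
        have h6 := congrArg (fun f => ((f c : ℂˣ) : ℂ)) h3
        simpa using h6
    · apply im_zero_of_conj
      have h7 : conj (X θ (1 : MulChar F ℂ) x) = X θ⁻¹ (1 : MulChar F ℂ) x := by
        unfold X
        rw [map_sub, conj_I, hk, map_ratCast]
      rw [h7, ← heq]
  refine GoodDeg.quot (Subgroup.center SL) i1 ?_ (good_of_rat hrat) ?_
  · intro z hz
    rcases center_cases hz with rfl | rfl
    · rfl
    · rw [X_z0 hg hpar, X_one hg, hone, mul_one]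
  · refine ⟨2, Nat.prime_two, h2.symm, ?_⟩
    have hcard : 1 ≤ Fintype.card F := Fintype.card_pos
    have hd : charDegree (X θ (1 : MulChar F ℂ)) = Fintype.card F - 1 := by
      apply Cfsg.Agent.Blocks.Basic.charDegree_of_eq
      rw [X_one hg]
      push_cast [Nat.cast_sub hcard]
      rfl
    rw [hd]
    obtain ⟨k, -, hk⟩ := FiniteField.card F r
    have ho : Odd (Fintype.card F) := by
      rw [hk]
      exact (hr.out.odd_of_ne_two h2).pow
    obtain ⟨m, hm⟩ := ho
    exact ⟨m, by omega⟩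

/-- `p ≥ 5` -/
theorem goodDeg_psl2_five {r : ℕ} [hr : Fact r.Prime] [CharP F r] (h2 : r ≠ 2) (h3 : r ≠ 3) :
    GoodDeg r (Matrix.ProjectiveSpecialLinearGroup (Fin 2) F) := by
  classical
  obtain ⟨k, -, hk⟩ := FiniteField.card F r
  have hc : Fintype.card F % 3 ≠ 0 := by
    rw [hk]
    intro h
    have h5 := Nat.Prime.dvd_of_dvd_pow Nat.prime_three (Nat.dvd_of_mod_eq_zero h)
    exact h3 ((Nat.prime_dvd_prime_iff_eq Nat.prime_three hr.out).1 h5).symm
  have hcard : 1 ≤ Fintype.card F := Fintype.card_pos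
  rcases (by omega : Fintype.card F % 3 = 1 ∨ Fintype.card F % 3 = 2) with hm | hm
  · have hd : 3 ∣ Fintype.card F - 1 := by omega
    obtain ⟨α, hα⟩ := MulChar.exists_mulChar_orderOf F (n := 3) hd (Complex.isPrimitiveRoot_exp _ (by norm_num))
    have h3' : α ^ 3 = 1 := by rw [← hα]; exact pow_orderOf_eq_one α
    have hne : α⁻¹ ≠ α := by
      intro h
      have h5 : α ^ 2 = 1 := by
        rw [sq]
        nth_rewrite 1 [← h]
        exact inv_mul_cancel _
      have h6 := orderOf_dvd_of_pow_eq_one h5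
      rw [hα] at h6
      omega
    refine goodDeg_R h2 hne (mulChar_neg_one_of_odd (by decide) h3') (good_of_rat fun x => ?_)
    apply rat_of_mem_V3 _ (real_R hne x)
    unfold R
    apply indFun_mem
    intro b
    exact mulChar_mem (n := 3) (fun z hz => mem_V3_of_cube hz) h3' _
  · obtain ⟨g, hg⟩ := exists_ell (F := F)
    have hcyc := isCyclic_cent g hg
    have hcc := card_cent_ell g hg
    have hd : 3 ∣ Nat.card (Subgroup.centralizer ({g} : Set SL)) := by rw [hcc]; omega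
    obtain ⟨γ, hγ⟩ := IsCyclic.exists_generator (α := Subgroup.centralizer ({g} : Set SL))
    have hζ := Complex.isPrimitiveRoot_exp 3 (by norm_num)
    generalize Complex.exp (2 * Real.pi * Complex.I / (3 : ℕ)) = ζ at hζ
    have hζ3 : ζ ^ 3 = 1 := hζ.pow_eq_one
    have hζ0 : ζ ≠ 0 := by
      rintro rfl
      norm_num at hζ3
    have hdvd : orderOf (Units.mk0 ζ hζ0) ∣ orderOf γ := by
      rw [orderOf_eq_card_of_forall_mem_zpowers hγ]
      refine dvd_trans (orderOf_dvd_of_pow_eq_one ?_) hd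
      apply Units.ext
      rw [Units.val_pow_eq_pow_val, Units.val_mk0, hζ3, Units.val_one]
    have hgen := monoidHomOfForallMemZpowers_apply_gen hγ hdvd
    generalize monoidHomOfForallMemZpowers hγ hdvd = θ at hgen
    refine goodDeg_X h2 hg (θ := θ) ?_ ?_
    · apply MonoidHom.ext
      intro c
      obtain ⟨n, hn⟩ := Subgroup.mem_zpowers_iff.1 (hγ c)
      rw [← hn, map_zpow, MonoidHom.pow_apply, hgen, MonoidHom.one_apply]
      have h6 : Units.mk0 ζ hζ0 ^ 3 = 1 := by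
        apply Units.ext
        rw [Units.val_pow_eq_pow_val, Units.val_mk0, hζ3, Units.val_one]
      rw [h6, _root_.one_zpow]
    · intro h
      rw [h, MonoidHom.one_apply] at hgen
      have h6 := congrArg Units.val hgen
      rw [Units.val_one, Units.val_mk0] at h6
      exact hζ.ne_one (by norm_num) h6.symm

end

end Cfsg.Agent.H652.RB

end

section

/-!
# A rational character of degree `q² - q + 1` of `PSU₃(q)`, `q` odd (helper652, for S4857)
-/


namespace Cfsg.Agent.H652.RB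

open Matrix Cfsg Cfsg.Agent.Characters.Core
  Cfsg.Agent.LieClassical.HermBasic Cfsg.Agent.LieClassical.HermSiegel Cfsg.Agent.LieClassical.HermGen
  Cfsg.Agent.LieClassical.SUBasic Cfsg.Agent.ClassicalGeometry.PSUAutBasic
  Cfsg.Agent.H961.LineChar Cfsg.Agent.H618.InvPSU3 Cfsg.Agent.H145.U3Sum Cfsg.Agent.H145.RankOne
  Cfsg.Agent.H145.U3Op Cfsg.Agent.H145.U3Ker Cfsg.Agent.H145.U3Ind
open Cfsg.Agent.H145.BR Cfsg.Agent.H685.BR Cfsg.Agent.ClassicalGeometry.UnitAutBasic

universe u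

variable {F : Type u} [Field F] [Fintype F] {q : ℕ}

theorem rat_f1 (hF : Fintype.card F = q ^ 2) {χ : MulChar F ℂ} (hχ : ∀ a : F, ∃ k : ℚ, χ a = k) (g : SU 3 F q) :
    ∃ k : ℚ, f1 χ hF g = k := by
  classical
  have hS : ∀ x y : Iso F q, SS χ x y ∈ (algebraMap ℚ ℂ).fieldRange := by
    intro x y
    rw [SS]
    refine Subfield.sum_mem _ fun l _ => ?_
    split_ifs
    · obtain ⟨k, hk⟩ := hχ (l : F)
      exact ⟨k, by rw [hk]; rfl⟩
    · exact Subfield.zero_mem _
  have hA : ∀ x y : Iso F q, AA χ x y ∈ (algebraMap ℚ ℂ).fieldRange := by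
    intro x y
    obtain ⟨k, hk⟩ := hχ (hermForm 3 F q y.1 x.1)
    exact ⟨k, by rw [AA, hk]; rfl⟩
  have he : eps hF χ ∈ (algebraMap ℚ ℂ).fieldRange := by
    obtain ⟨k, hk⟩ := hχ (c0 hF ^ q)
    exact ⟨k, by rw [eps, hk]; rfl⟩
  have hq : (q : ℂ) ∈ (algebraMap ℚ ℂ).fieldRange := natCast_mem _ q
  have h : f1 χ hF g ∈ (algebraMap ℚ ℂ).fieldRange := by
    rw [f1]
    refine Subfield.sum_mem _ fun x _ => ?_
    rw [EE]
    refine Subfield.mul_mem _ (Subfield.inv_mem _ (Subfield.mul_mem _ (Subfield.sub_mem _ (Subfield.pow_mem _ hq 2)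
      (Subfield.one_mem _)) (Subfield.mul_mem _ hq (Subfield.add_mem _ hq (Subfield.one_mem _))))) ?_
    exact Subfield.sub_mem _ (Subfield.mul_mem _ hq (hS _ _)) (Subfield.mul_mem _ he (hA _ _))
  obtain ⟨k, hk⟩ := h
  exact ⟨k, hk.symm⟩

/-- **`PSU₃(q)`, `q` odd** -/
theorem goodDeg_psu3 {r : ℕ} [hr : Fact r.Prime] (hF : Fintype.card F = q ^ 2) (ho : Odd q) (hrq : r ∣ q) :
    GoodDeg r (PSU 3 F q) := by
  classical
  have : Fintype (SU 3 F q) := Fintype.ofFinite _
  have hq2 := two_le hF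
  have h2 : ringChar F ≠ 2 := by
    intro h
    have h3 := FiniteField.even_card_of_char_two h
    rw [hF] at h3
    exact (Nat.not_even_iff_odd.2 ho.pow) (Nat.even_iff.2 h3)
  obtain ⟨e, f, H⟩ := exists_frame (F := F) (q := q) (n := 3) hF (by norm_num)
  have : Fintype (siegG hF e H.ee) := Fintype.ofFinite _
  obtain ⟨χ, hχ⟩ : ∃ χ : MulChar F ℂ, χ = (quadraticChar F).ringHomComp (Int.castRingHom ℂ) := ⟨_, rfl⟩
  have hval : ∀ a : F, χ a = ((quadraticChar F a : ℤ) : ℂ) := fun a => by rw [hχ]; rfl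
  have hsq : χ ^ 2 = 1 := by
    ext a
    rw [MulChar.pow_apply_coe, hval, MulChar.one_apply_coe]
    have h3 := quadraticChar_sq_one' (F := F) (a := (a : F)) a.ne_zero
    rw [← Int.cast_pow, ← map_pow, h3]
    simp
  have h1 : χ ≠ 1 := by
    intro h
    obtain ⟨a, ha⟩ := quadraticChar_exists_neg_one h2
    have h3 := hval a
    rw [ha, h] at h3
    by_cases ha0 : a = 0
    · rw [ha0, quadraticChar_zero] at ha
      omega
    · rw [MulChar.one_apply (IsUnit.mk0 a ha0)] at h3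
      norm_num at h3
  have hq1 : χ ^ (q + 1) = 1 := by
    obtain ⟨m, hm⟩ := ho
    rw [hm, show 2 * m + 1 + 1 = 2 * (m + 1) by ring, pow_mul, hsq, one_pow]
  have hc : ∀ c : F, c ^ 3 = 1 → c ^ (q + 1) = 1 → χ c = 1 := by
    intro c hc3 _
    have hc0 : c ≠ 0 := by
      rintro rfl
      simp at hc3
    rw [hval]
    have h3 : c = c⁻¹ ^ 2 := by
      field_simp
      exact hc3
    have h4 := quadraticChar_sq_one' (F := F) (a := c⁻¹) (inv_ne_zero hc0)
    rw [← h3] at h4
    rw [h4]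
    simp
  obtain ⟨i1, -⟩ := irr_f1 hF H hq1 h1
  obtain ⟨η, hη⟩ := Cfsg.Agent.H706.GlaubQuot.exists_deflate
    (Subgroup.center (SU 3 F q)) i1 (fun n hn g => f1_central hF hc hn g)
  have hv : ∀ g : SU 3 F q, (η : PSU 3 F q → ℂ) (QuotientGroup.mk g) = f1 χ hF g := fun g =>
    (congrFun hη g).symm
  have hd : (η : PSU 3 F q → ℂ) 1 = ((q * (q - 1) + 1 : ℕ) : ℂ) := by
    have h3 : (η : PSU 3 F q → ℂ) 1 = f1 χ hF 1 := by rw [← hv]; rfl
    rw [h3, f1_one]
    push_cast [Nat.cast_sub (show 1 ≤ q by omega)]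
    ring
  have hdeg : charDegree (η : PSU 3 F q → ℂ) = q * (q - 1) + 1 := Cfsg.Agent.Blocks.Basic.charDegree_of_eq hd
  have hnd : ¬ r ∣ q * (q - 1) + 1 := by
    intro h
    exact hr.out.one_lt.ne' (Nat.dvd_one.1 ((Nat.dvd_add_right (hrq.mul_right _)).1 h))
  obtain ⟨p, hp, hpr, hpd⟩ := exists_prime_ne hnd (by
    have : 0 < q * (q - 1) := Nat.mul_pos (by omega) (by omega)
    omega)
  refine ⟨η, good_of_rat fun g => ?_, p, hp, hpr, ?_⟩
  · obtain ⟨x, rfl⟩ := QuotientGroup.mk_surjective g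
    obtain ⟨k, hk⟩ := rat_f1 hF (χ := χ) (fun a => ⟨((quadraticChar F a : ℤ) : ℚ), by rw [hval]; push_cast; rfl⟩) x
    exact ⟨k, by rw [← hk]; exact hv x⟩
  · rw [hdeg]
    exact hpd

end Cfsg.Agent.H652.RB

end

section

/-!
# A real `3`-rational principal series character of the small Ree groups (helper652, for S4857)
-/

set_option linter.unusedSectionVars false

namespace Cfsg.Agent.H652.RB

open Cfsg Cfsg.Agent.Characters.Core Cfsg.Agent.H145.BR Cfsg.Agent.H685.BR
open Cfsg.Agent.LieRecognition Cfsg.Agent.LieRecognition.ReeAbs Cfsg.Agent.LieRecognition.ReeSylowThree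
  Cfsg.Agent.LieRecognition.ReeSplit Cfsg.Agent.H88 Cfsg.Agent.H732.RankOneGG Cfsg.Agent.H732.DegRee
open Cfsg.Agent.LieRecognition.RankOneAbstract (Data)
open scoped ComplexConjugate

universe u v

theorem conj_ind {G : Type u} [Group G] [Fintype G] {H : Subgroup G} (f : H →* ℂˣ) (x : G) :
    conj (indFun H (fun t => (f t : ℂ)) x) = indFun H (fun t => ((f⁻¹ t : ℂˣ) : ℂ)) x := by
  classical
  rw [indFun_apply, indFun_apply, map_mul, map_inv₀, Complex.conj_natCast, map_sum]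
  congr 1
  refine Finset.sum_congr rfl fun y _ => ?_
  by_cases hy : y⁻¹ * x * y ∈ H
  · rw [extendByZero_of_mem _ _ hy, extendByZero_of_mem _ _ hy, MonoidHom.inv_apply]
    exact Cfsg.Agent.H984.SLTwo.conj_hom f _
  · rw [extendByZero_of_notMem _ _ hy, extendByZero_of_notMem _ _ hy, map_zero]

/-- if `w` inverts `f`, the induced character is real -/
theorem real_ind {G : Type u} [Group G] [Fintype G] {H U : Subgroup G} {w : G} (D : Data H U w) (f : H →* ℂˣ)
    (hinv : ∀ (d : G) (hd : d ∈ H) (hdw : w⁻¹ * d * w ∈ H), f ⟨d, hd⟩ * f ⟨w⁻¹ * d * w, hdw⟩ = 1)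
    (h1 : IsIrrCharacter G (indFun H (fun t => (f t : ℂ)))) (x : G) :
    (indFun H (fun t => (f t : ℂ)) x).im = 0 := by
  classical
  have : Fintype H := Fintype.ofFinite H
  have h2 : IsIrrCharacter G (indFun H (fun t => ((f⁻¹ t : ℂˣ) : ℂ))) := by
    have h3 := isIrr_conj h1
    have h4 : (fun g => conj (indFun H (fun t => (f t : ℂ)) g)) = indFun H (fun t => ((f⁻¹ t : ℂˣ) : ℂ)) :=
      funext fun g => conj_ind f g
    rw [← h4]
    exact h3
  have key : ∀ x : G, ∃ n : ℕ, ∑ b : H, (f b : ℂ) * extendByZero H (fun t => (f t : ℂ)) (x⁻¹ * b * x) = n ∧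
      (x ∉ H → 0 < n) := by
    intro x
    by_cases hx : x ∈ H
    · have h3 : ∑ b : H, (f b : ℂ) * extendByZero H (fun t => (f t : ℂ)) (x⁻¹ * b * x) =
          ∑ b : H, (((f ^ 2) b : ℂˣ) : ℂ) := by
        refine Finset.sum_congr rfl fun b _ => ?_
        have h4 : x⁻¹ * (b : G) * x = ((⟨x, hx⟩⁻¹ * b * ⟨x, hx⟩ : H) : G) := rfl
        rw [extendByZero_of_mem _ _ (by rw [h4]; exact Subtype.mem _)]
        have h5 : (⟨x⁻¹ * (b : G) * x, by rw [h4]; exact Subtype.mem _⟩ : H) = ⟨x, hx⟩⁻¹ * b * ⟨x, hx⟩ := rfl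
        rw [h5, map_mul, map_mul, map_inv, mul_comm (f ⟨x, hx⟩)⁻¹, inv_mul_cancel_right, MonoidHom.pow_apply,
          Units.val_pow_eq_pow_val, pow_two]
      rw [h3]
      by_cases h4 : f ^ 2 = 1
      · refine ⟨Fintype.card H, ?_, fun h5 => absurd hx h5⟩
        rw [h4]
        simp
      · refine ⟨0, ?_, fun h5 => absurd hx h5⟩
        rw [Cfsg.Agent.H984.SLTwo.sum_hom_eq_zero h4, Nat.cast_zero]
    · obtain ⟨s, hs, hsx⟩ := D.bruhat x hx
      refine ⟨(Finset.univ.filter fun b : H => x⁻¹ * (b : G) * x ∈ H).card, ?_, fun _ => ?_⟩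
      · rw [Finset.card_eq_sum_ones, Nat.cast_sum, Finset.sum_filter]
        refine Finset.sum_congr rfl fun b _ => ?_
        split_ifs with hb
        · rw [extendByZero_of_mem _ _ hb]
          have hsH : s ∈ H := D.le hs
          obtain ⟨k, hk⟩ : ∃ k, k = (s * w)⁻¹ * x := ⟨_, rfl⟩
          have hkH : k ∈ H := by rw [hk]; exact hsx
          have hxe : x = s * w * k := by rw [hk]; group
          have hb' : s⁻¹ * (b : G) * s ∈ H := H.mul_mem (H.mul_mem (H.inv_mem hsH) b.2) hsH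
          have hbw : w⁻¹ * (s⁻¹ * (b : G) * s) * w ∈ H := by
            have h3 := H.mul_mem (H.mul_mem hkH hb) (H.inv_mem hkH)
            have h4 : k * (x⁻¹ * (b : G) * x) * k⁻¹ = w⁻¹ * (s⁻¹ * (b : G) * s) * w := by rw [hxe]; group
            rwa [h4] at h3
          have e1 : f ⟨s⁻¹ * (b : G) * s, hb'⟩ = f b := by
            have h5 : (⟨s⁻¹ * (b : G) * s, hb'⟩ : H) = ⟨s, hsH⟩⁻¹ * b * ⟨s, hsH⟩ := rfl
            rw [h5, map_mul, map_mul, map_inv, mul_comm (f ⟨s, hsH⟩)⁻¹, inv_mul_cancel_right]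
          have e2 : f ⟨x⁻¹ * (b : G) * x, hb⟩ = f ⟨w⁻¹ * (s⁻¹ * (b : G) * s) * w, hbw⟩ := by
            have h5 : (⟨x⁻¹ * (b : G) * x, hb⟩ : H) =
                ⟨k, hkH⟩⁻¹ * ⟨w⁻¹ * (s⁻¹ * (b : G) * s) * w, hbw⟩ * ⟨k, hkH⟩ := by
              apply Subtype.ext
              simp only [Subgroup.coe_mul, InvMemClass.coe_inv]
              rw [hxe]
              group
            rw [h5, map_mul, map_mul, map_inv, mul_comm (f ⟨k, hkH⟩)⁻¹, inv_mul_cancel_right]
          have e3 := hinv _ hb' hbw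
          rw [e1] at e3
          rw [e2, ← Units.val_mul, e3, Units.val_one, Nat.cast_one]
        · rw [extendByZero_of_notMem _ _ hb, mul_zero]
      · apply Finset.card_pos.2
        refine ⟨1, ?_⟩
        rw [Finset.mem_filter]
        refine ⟨Finset.mem_univ _, ?_⟩
        rw [Subgroup.coe_one, mul_one, inv_mul_cancel]
        exact H.one_mem
  choose n hn hn' using key
  have heq : indFun H (fun t => (f t : ℂ)) = indFun H (fun t => ((f⁻¹ t : ℂˣ) : ℂ)) := by
    by_contra hne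
    have h3 := classInner_irr_ne h1 h2 hne
    rw [Cfsg.Agent.CharactersDeep.NormalInd.classInner_indFun _ _ _ (isIrr_isClassFunction h2), classInner_def] at h3
    have hc : (Nat.card H : ℂ) ≠ 0 := by exact_mod_cast Nat.card_pos.ne'
    have h4 : ∑ b : H, (f b : ℂ) * conj (indFun H (fun t => ((f⁻¹ t : ℂˣ) : ℂ)) (b : G)) = 0 := by
      have h5 := (mul_eq_zero.1 h3).resolve_left (inv_ne_zero hc)
      exact h5
    have h5 : ∀ b : H, (f b : ℂ) * conj (indFun H (fun t => ((f⁻¹ t : ℂˣ) : ℂ)) (b : G)) =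
        (Nat.card H : ℂ)⁻¹ * ∑ x : G, (f b : ℂ) * extendByZero H (fun t => (f t : ℂ)) (x⁻¹ * b * x) := by
      intro b
      rw [conj_ind]
      have h6 : (f⁻¹)⁻¹ = f := inv_inv f
      rw [h6, indFun_apply, ← Finset.mul_sum]
      ring
    rw [Finset.sum_congr rfl fun b _ => h5 b, ← Finset.mul_sum, Finset.sum_comm] at h4
    have h6 := (mul_eq_zero.1 h4).resolve_left (inv_ne_zero hc)
    rw [Finset.sum_congr rfl fun x _ => hn x, ← Nat.cast_sum] at h6
    have h7 : ∑ x : G, n x = 0 := by exact_mod_cast h6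
    have h8 := Finset.sum_eq_zero_iff.1 h7 w (Finset.mem_univ w)
    exact (hn' w D.w_not_mem).ne' h8
  apply im_zero_of_conj
  rw [conj_ind, ← heq]

section ree

variable {K : Type u} [Field K] [Fintype K] {G : Type v} [Group G] {m : ℕ}
  {U : K → K → K → G} {h : Kˣ → G} {n : G}

theorem goodDeg_ree_data [Finite G] (D : ReeAbs.Data m U h n) (hm : 1 ≤ m) (hK : Fintype.card K = 3 ^ (2 * m + 1)) :
    GoodDeg 3 G := by
  classical
  have : Fact (Nat.Prime 3) := ⟨Nat.prime_three⟩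
  have := Fintype.ofFinite G
  have R := RkRee.rank_one D
  have hcU : Nat.card (uSub D) = (3 ^ (2 * m + 1)) ^ 3 := by rw [card_uSub D, hK]
  have hq27 : 27 ≤ 3 ^ (2 * m + 1) := by
    calc 27 = 3 ^ 3 := by norm_num
      _ ≤ 3 ^ (2 * m + 1) := Nat.pow_le_pow_right (by norm_num) (by omega)
  obtain ⟨g₀, hg₀⟩ := IsCyclic.exists_generator (α := Kˣ)
  have hg1 : g₀ * g₀ ≠ 1 := by
    intro h1
    have h2 : orderOf g₀ ∣ 2 := orderOf_dvd_of_pow_eq_one (by rw [pow_two, h1])
    have h3 := orderOf_eq_card_of_forall_mem_zpowers hg₀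
    rw [Nat.card_units, Nat.card_eq_fintype_card, hK] at h3
    have := Nat.le_of_dvd (by norm_num) h2
    omega
  obtain ⟨f, hfU, hf⟩ := exists_hom_ne R (hab D) (x := hh D (g₀ * g₀)) (h_not_mem D hg1)
  have hdw : n * h g₀ * n⁻¹ ∈ bSub D := by rw [n_conj D]; exact h_mem_bSub D _
  have hirr := ind_irr R f (h_mem_bSub D g₀) hdw (by
    intro h1
    apply hf
    have h3 : (⟨n * h g₀ * n⁻¹, hdw⟩ : bSub D) = (hh D g₀)⁻¹ := by
      rw [← map_inv]
      exact Subtype.ext (n_conj D g₀)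
    have h4 : (⟨h g₀, h_mem_bSub D g₀⟩ : bSub D) = hh D g₀ := rfl
    rw [h3, h4, map_inv, inv_eq_iff_mul_eq_one] at h1
    rw [map_mul, map_mul, h1])
  have hinv : ∀ (d : G) (hd : d ∈ bSub D) (hdw : n⁻¹ * d * n ∈ bSub D), f ⟨d, hd⟩ * f ⟨n⁻¹ * d * n, hdw⟩ = 1 := by
    intro d hd hdw
    obtain ⟨a, rfl⟩ := (mem_hSub D).1 ((hT D d).2 ⟨hd, hdw⟩)
    have h3 : (⟨n⁻¹ * h a * n, hdw⟩ : bSub D) = (hh D a)⁻¹ := by
      rw [← map_inv]
      apply Subtype.ext
      show n⁻¹ * h a * n = h a⁻¹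
      have h4 := n_conj D a⁻¹
      rw [inv_inv] at h4
      rw [← h4]
      group
    have h4 : (⟨h a, hd⟩ : bSub D) = hh D a := rfl
    rw [h3, h4, map_inv, mul_inv_cancel]
  have hdeg : charDegree (indFun (bSub D) (fun t => (f t : ℂ))) = (3 ^ (2 * m + 1)) ^ 3 + 1 := by
    apply Cfsg.Agent.Blocks.Basic.charDegree_of_eq
    rw [ind_one, R.index, hcU]
  refine ⟨⟨_, hirr⟩, good_of_real_pRat rfl (real_ind R f hinv hirr) ⟨3 ^ (2 * m + 1) - 1, ?_, fun g => ?_⟩, 2,
    Nat.prime_two, by norm_num, ?_⟩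
  · intro h3
    have h6 : 3 ∣ 3 ^ (2 * m + 1) := dvd_pow_self 3 (by omega)
    omega
  · have h5 : indFun (bSub D) (fun t => (f t : ℂ)) g ∈ (Subalgebra.toSubmodule (IntermediateField.adjoin ℚ
        ({Complex.exp (2 * Real.pi * Complex.I / (3 ^ (2 * m + 1) - 1 : ℕ))} : Set ℂ)).toSubalgebra) := by
      apply indFun_mem
      rintro ⟨_, t, u, v, a, rfl⟩
      have h1 : (⟨U t u v * h a, ⟨t, u, v, a, rfl⟩⟩ : bSub D) =
        ⟨U t u v, uSub_le_bSub D ⟨t, u, v, rfl⟩⟩ * hh D a := rfl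
      have h2 : f (⟨U t u v * h a, ⟨t, u, v, a, rfl⟩⟩ : bSub D) = f (hh D a) := by
        rw [h1, map_mul, hfU _ ⟨t, u, v, rfl⟩, one_mul]
      rw [h2]
      apply mem_adjoin_of_pow_eq_one (by omega)
      rw [← Units.val_pow_eq_pow_val, ← map_pow, ← map_pow, pow_card hK, map_one, map_one, Units.val_one]
    exact h5
  · show 2 ∣ charDegree (indFun (bSub D) (fun t => (f t : ℂ)))
    rw [hdeg]
    have h6 : Odd ((3 ^ (2 * m + 1)) ^ 3) := (Odd.pow (Odd.pow (by decide)))
    exact (h6.add_one).two_dvd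

end ree

theorem goodDeg_ree {S : Type u} [Group S] (hS : Lie.IsoRee S) : GoodDeg 3 S := by
  obtain ⟨K, _, _, m, hm, hK, ⟨e⟩⟩ := hS
  have hfin : Finite ↥(Cfsg.Lie.twistedG2 K (3 ^ m)) := by
    apply Nat.finite_of_card_ne_zero
    rw [Cfsg.Agent.LieRecognition.ReeFinal.card hK]
    have h1 : 0 < 3 ^ (2 * m + 1) := by positivity
    have h2 : 0 < 3 ^ (2 * m + 1) - 1 := by
      have : 3 ^ 1 ≤ 3 ^ (2 * m + 1) := Nat.pow_le_pow_right (by norm_num) (by omega)
      omega
    positivity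
  exact (goodDeg_ree_data (Cfsg.Agent.LieRecognition.ReeFinal.data hK) hm hK).congr e

end Cfsg.Agent.H652.RB

end

section

/-!
# Characters with good values and degree not a power of the characteristic: all families except the exceptional
Chevalley groups, `²E₆` and `³D₄` (helper652, for S4857)
-/


namespace Cfsg.Agent.H652.RB

open Cfsg Cfsg.Agent.H145.BR Cfsg.Agent.H685.BR

universe u v

variable {p : ℕ} [hp : Fact p.Prime]

theorem odd_card (h2 : p ≠ 2) (F : Type u) [Field F] [Fintype F] [CharP F p] : Odd (Fintype.card F) := by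
  obtain ⟨k, -, hk⟩ := FiniteField.card F p
  rw [hk]
  exact (hp.out.odd_of_ne_two h2).pow

theorem two_ne_zero' (h2 : p ≠ 2) (F : Type u) [Field F] [CharP F p] : (2 : F) ≠ 0 := by
  intro h
  have h3 : ((2 : ℕ) : F) = 0 := by exact_mod_cast h
  rw [CharP.cast_eq_zero_iff F p] at h3
  exact h2 ((Nat.prime_dvd_prime_iff_eq hp.out Nat.prime_two).1 h3)

theorem goodDeg_pslChar (h2 : p ≠ 2) {X : Type u} [Group X] (h : IsPSLChar p X) : GoodDeg p X := by
  classical
  obtain ⟨F, _, _, _, n, hn, hn4, ⟨e⟩⟩ := h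
  refine GoodDeg.congr e ?_
  rcases (by omega : n = 2 ∨ 3 ≤ n) with rfl | h3
  · by_cases hp3 : p = 3
    · subst hp3
      exact goodDeg_psl2_three (hn4 rfl)
    · exact goodDeg_psl2_five h2 hp3
  · exact goodDeg_psl h3

theorem goodDeg_pspChar (h2 : p ≠ 2) {X : Type u} [Group X] (h : IsPSpChar p X) : GoodDeg p X := by
  classical
  obtain ⟨F, _, _, _, m, hm, -, ⟨e⟩⟩ := h
  have ho : Odd (Nat.card F) := by rw [Nat.card_eq_fintype_card]; exact odd_card h2 F
  exact ((evenInt_sp F hm ho (two_ne_zero' h2 F)).goodDeg h2).congr e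

theorem goodDeg_psuChar (h2 : p ≠ 2) {X : Type u} [Group X] (h : IsPSUChar p X) : GoodDeg p X := by
  classical
  obtain ⟨F, _, _, _, n, q, hF, hn, -, ⟨e⟩⟩ := h
  have ho : Odd q := by
    have h3 := odd_card h2 F
    rw [hF] at h3
    exact (Nat.odd_pow_iff (by norm_num)).1 h3
  have hpq : p ∣ q := by
    obtain ⟨k, -, hk⟩ := FiniteField.card F p
    have h3 : p ∣ q ^ 2 := by
      rw [← hF, hk]
      exact dvd_pow_self p k.ne_zero
    exact hp.out.dvd_of_dvd_pow h3
  refine GoodDeg.congr e ?_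
  rcases (by omega : n = 3 ∨ 4 ≤ n) with rfl | h4
  · exact goodDeg_psu3 hF ho hpq
  · exact (evenInt_psu hF ho h4).goodDeg h2

theorem goodDeg_oddChar (h2 : p ≠ 2) {X : Type u} [Group X] (h : IsPOmegaOddChar p X) : GoodDeg p X := by
  classical
  obtain ⟨F, _, _, _, m, hm, -, ⟨e⟩⟩ := h
  have ho : Odd (Nat.card F) := by rw [Nat.card_eq_fintype_card]; exact odd_card h2 F
  exact ((evenInt_odd F (two_ne_zero' h2 F) ho hm).goodDeg h2).congr e

theorem goodDeg_plusChar (h2 : p ≠ 2) {X : Type u} [Group X] (h : IsPOmegaPlusChar p X) : GoodDeg p X := by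
  classical
  obtain ⟨F, _, _, _, m, hm, ⟨e⟩⟩ := h
  have ho : Odd (Nat.card F) := by rw [Nat.card_eq_fintype_card]; exact odd_card h2 F
  exact ((evenInt_plus F hm ho).goodDeg h2).congr e

theorem goodDeg_minusChar (h2 : p ≠ 2) {X : Type u} [Group X] (h : IsPOmegaMinusChar p X) : GoodDeg p X := by
  classical
  obtain ⟨F, _, _, _, m, a, b, hm, hab, ⟨e⟩⟩ := h
  have ho : Odd (Nat.card F) := by rw [Nat.card_eq_fintype_card]; exact odd_card h2 F
  exact ((evenInt_minus F a b hab (l := m - 1) (by omega) ho).goodDeg h2).congr e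

/-- all families except the exceptional Chevalley groups, `²E₆` and `³D₄` -/
theorem goodDeg_classical (h2 : p ≠ 2) {X : Type u} [Group X] (h : IsLieTypeChar p X)
    (h1 : ¬ IsExceptionalChevChar p X) (h3 : ¬ IsTwistedE6D4Char p X) : GoodDeg p X := by
  rcases h with h | h | h | h | h | h | h | h | h | h | h
  · exact goodDeg_pslChar h2 h
  · exact goodDeg_pspChar h2 h
  · exact goodDeg_psuChar h2 h
  · exact goodDeg_oddChar h2 h
  · exact goodDeg_plusChar h2 h
  · exact goodDeg_minusChar h2 h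
  · exact absurd h h1
  · exact absurd h h3
  · exact absurd h.1 h2
  · exact absurd h.1 h2
  · obtain ⟨rfl, h⟩ := h
    exact goodDeg_ree h

end Cfsg.Agent.H652.RB

end

section

/-!
# The own characteristic rows of S4857, except the exceptional groups (helper652)
-/


namespace Cfsg.Agent.H652.RB

open Cfsg Cfsg.Agent.H145.BR Cfsg.Agent.H685.BR

universe u v

variable {p : ℕ} [hp : Fact p.Prime]

theorem GoodDeg.row57 {X : Type u} [Group X] [Finite X] (hX : IsLieTypeChar p X) (h : GoodDeg p X) : Row57 p X := by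
  intro M hM
  obtain ⟨χ, hg, r, hr, hrp, hd⟩ := h
  refine ⟨χ, H133.PB.mem_principal_of_lie hp.out hr hrp hX χ hd hM, ?_, hg⟩
  intro h1
  have h2 : charDegree (χ : X → ℂ) = 1 := by
    apply Cfsg.Agent.Blocks.Basic.charDegree_of_eq
    rw [h1]
    norm_num
  rw [h2] at hd
  exact hr.one_lt.ne' (Nat.dvd_one.1 hd)

/-- **The own characteristic rows**, given the rows of the exceptional groups. -/
theorem own_row57 (h2 : p ≠ 2)
    (exc : RowFor57 p (fun X _ => IsExceptionalChevChar p X ∨ IsTwistedE6D4Char p X)) :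
    RowFor57 p (fun X _ => IsLieTypeChar p X) := by
  intro X _ _ _ hna hd hX
  by_cases h : IsExceptionalChevChar p X ∨ IsTwistedE6D4Char p X
  · exact exc X hna hd h
  · rw [not_or] at h
    exact (goodDeg_classical h2 hX h.1 h.2).row57 hX

end Cfsg.Agent.H652.RB

end
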